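import Groth.Agent.ZClosure.Criteria

/-! The Z-closure is Z-closed; its universal property on stalks; locality. -/

set_option autoImplicit false
universe u

open CategoryTheory CategoryTheory.Limits AlgebraicGeometry TopologicalSpace Opposite

namespace Groth.Agent.ZClosure

open Groth.Agent.ModStalk

variable {X : Scheme.{u}} {Z : Set X}

theorem isCompact_of_subset_affine [IsLocallyNoetherian X] {V W : X.Opens} (hV : IsAffineOpen V) (h : W ≤ V) :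
    IsCompact (W : Set X) := by
  have : IsNoetherianRing Γ(X, V) := IsLocallyNoetherian.component_noetherian ⟨V, hV⟩
  have hn : NoetherianSpace (Spec Γ(X, V)) := inferInstance
  have h2 := (NoetherianSpace.isCompact (hV.fromSpec ⁻¹' (W : Set X))).image hV.fromSpec.continuous
  rwa [Set.image_preimage_eq_inter_range, hV.range_fromSpec,
    Set.inter_eq_left.mpr (show (W : Set X) ⊆ V from h)] at h2

theorem stalkMapₗ_rho (F : X.Modules) (y : X) (m : F.presheaf.stalk y) :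
    RefHull.stalkMapₗ (ZClos.rhoApp Z F) y m = ZClos.rhoStalk Z F y m := rfl

theorem exists_rep_section (F : X.Modules) (V : X.Opens) (c : Γ((ZClos.H0 Z).obj F, V)) (x : X) (hx : x ∈ V) :
    ∃ (T : ZClos.Cl Z) (W : X.Opens) (h : W ≤ V) (_ : x ∈ W) (a : Γ(F, T.U.ι ''ᵁ T.U.ι ⁻¹ᵁ W)),
      ((ZClos.H0 Z).obj F).presheaf.map (homOfLE h).op c = gT Z F T W a := by
  obtain ⟨T, U, hxU, a, ha⟩ := exists_rep F x (((ZClos.H0 Z).obj F).presheaf.germ V x hx c)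
  obtain ⟨W, hxW, i, j, h⟩ := TopCat.Presheaf.germ_eq _ x hx hxU c (gT Z F T U a) ha.symm
  refine ⟨T, W, leOfHom i, hxW,
    F.presheaf.map (homOfLE (T.U.ι.image_mono (Scheme.Hom.preimage_mono T.U.ι (leOfHom j)))).op a, ?_⟩
  exact h.trans (gT_map F T (leOfHom j) a)

theorem germ_of_rep (F : X.Modules) {T : ZClos.Cl Z} {V W : X.Opens} {h : W ≤ V}
    {c : Γ((ZClos.H0 Z).obj F, V)} {a : Γ(F, T.U.ι ''ᵁ T.U.ι ⁻¹ᵁ W)}
    (he : ((ZClos.H0 Z).obj F).presheaf.map (homOfLE h).op c = gT Z F T W a) (y : X) (hy : y ∈ W)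
    (hyT : y ∈ T.U) (hy' : y ∈ T.U.ι ''ᵁ T.U.ι ⁻¹ᵁ W) :
    ((ZClos.H0 Z).obj F).presheaf.germ V y (h hy) c = ZClos.rhoStalk Z F y (F.presheaf.germ _ y hy' a) := by
  rw [← germ_gT_of_mem F T W a y hy hyT hy', ← he, TopCat.Presheaf.germ_res_apply]

theorem pure_H0 [IsLocallyNoetherian X] (hZ : StableUnderSpecialization Z) (F : X.Modules) :
    Pure Z ((ZClos.H0 Z).obj F) := by
  intro V c hc
  refine section_eq_zero _ c fun x hx => ?_
  obtain ⟨T, W, hle, hxW, a, ha⟩ := exists_rep_section F V c x hx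
  have h0 : gT Z F T W a = 0 := by
    refine gT_eq_zero hZ F T W a fun y hy hyZ => ?_
    have hy' := hy
    rw [ZClos.ι_image_preimage] at hy'
    apply (rhoStalk_bijective_of_notMem F hyZ).1
    rw [map_zero, ← germ_of_rep F ha y hy'.2 hy'.1 hy]
    exact hc y (hle hy'.2) hyZ
  rw [← ((ZClos.H0 Z).obj F).presheaf.germ_res_apply (homOfLE hle) x hxW c, ha, h0, map_zero]

theorem le_T_U {V : X.Opens} (T : ZClos.Cl Z) : T.U.ι ''ᵁ T.U.ι ⁻¹ᵁ V ≤ T.U := by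
  rw [ZClos.ι_image_preimage]; exact inf_le_left

theorem ext_H0 [IsLocallyNoetherian X] (hZ : StableUnderSpecialization Z) (F : X.Modules) :
    Ext Z ((ZClos.H0 Z).obj F) := by
  classical
  refine ext_of_bijective hZ _ fun T V hV => ⟨?_, fun c => ?_⟩
  · rw [injective_iff_map_eq_zero]
    intro d hd
    refine pure_H0 hZ F V d fun y hy hyZ => ?_
    have hyT : y ∈ V ⊓ T.U := ⟨hy, fun h => hyZ (T.2 h)⟩
    rw [← TopCat.Presheaf.germ_res_apply _ (homOfLE (inf_le_left : V ⊓ T.U ≤ V)) y hyT d, hd, map_zero]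
  · choose Tr W hW hxW a ha using fun x : ↥(V ⊓ T.U) => exists_rep_section F (V ⊓ T.U) c x.1 x.2
    obtain ⟨S, hS⟩ := (isCompact_of_subset_affine hV (inf_le_left : V ⊓ T.U ≤ V)).elim_finite_subcover
      (fun x => (W x : Set X)) (fun x => (W x).isOpen) (fun x hx => Set.mem_iUnion.mpr ⟨⟨x, hx⟩, hxW _⟩)
    obtain ⟨T', b, hb⟩ := exists_glue hZ F (fun i : ↥S => (Tr i.1).U.ι ''ᵁ (Tr i.1).U.ι ⁻¹ᵁ W i.1)
      (fun i => a i.1) (fun i j y hi hj hyZ => by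
        have hi' := hi; have hj' := hj
        rw [ZClos.ι_image_preimage] at hi' hj'
        apply (rhoStalk_bijective_of_notMem F hyZ).1
        rw [← germ_of_rep F (ha i.1) y hi'.2 hi'.1 hi, ← germ_of_rep F (ha j.1) y hj'.2 hj'.1 hj])
    let T'' : ZClos.Cl Z := T ⊔ T' ⊔ S.sup Tr
    have hle : T''.U.ι ''ᵁ T''.U.ι ⁻¹ᵁ V ≤
        T'.U ⊓ ⨆ i : ↥S, (Tr i.1).U.ι ''ᵁ (Tr i.1).U.ι ⁻¹ᵁ W i.1 := by
      rw [ZClos.ι_image_preimage]
      rintro y ⟨hyT, hyV⟩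
      obtain ⟨x, hxS, hyx⟩ := Set.mem_iUnion₂.mp
        (hS ⟨hyV, ZClos.Cl.U_anti (le_sup_left.trans le_sup_left : T ≤ T'') hyT⟩)
      refine ⟨ZClos.Cl.U_anti (le_sup_right.trans le_sup_left : T' ≤ T'') hyT,
        Opens.mem_iSup.mpr ⟨⟨x, hxS⟩, ?_⟩⟩
      rw [ZClos.ι_image_preimage]
      exact ⟨ZClos.Cl.U_anti ((Finset.le_sup hxS).trans le_sup_right : Tr x ≤ T'') hyT, hyx⟩
    refine ⟨gT Z F T'' V (F.presheaf.map (homOfLE hle).op b), sub_eq_zero.mp (pure_H0 hZ F _ _ fun y hy hyZ => ?_)⟩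
    have hnot : ∀ T₀ : ZClos.Cl Z, y ∈ T₀.U := fun T₀ h => hyZ (T₀.2 h)
    have hy'' : y ∈ T''.U.ι ''ᵁ T''.U.ι ⁻¹ᵁ V := by rw [ZClos.ι_image_preimage]; exact ⟨hnot _, hy.1⟩
    rw [map_sub, TopCat.Presheaf.germ_res_apply, germ_gT_of_mem F T'' V _ y hy.1 (hnot _) hy'',
      TopCat.Presheaf.germ_res_apply]
    obtain ⟨x, hxS, hyx⟩ := Set.mem_iUnion₂.mp (hS hy)
    have hyi : y ∈ (Tr x).U.ι ''ᵁ (Tr x).U.ι ⁻¹ᵁ W x := by rw [ZClos.ι_image_preimage]; exact ⟨hnot _, hyx⟩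
    rw [hb ⟨x, hxS⟩ y hyi (hnot _), ← germ_of_rep F (ha x) y hyx (hnot _) hyi]
    exact sub_self _

theorem isZClosed_H0 [IsLocallyNoetherian X] (hZ : StableUnderSpecialization Z) (F : X.Modules) :
    ZClos.IsZClosed Z ((ZClos.H0 Z).obj F) :=
  (isZClosed_iff_ext hZ _).mpr ⟨pure_H0 hZ F, ext_H0 hZ F⟩

theorem isIso_of_stalk_bijective {F G : X.Modules} (φ : F ⟶ G)
    (h : ∀ x, Function.Bijective (RefHull.stalkMapₗ φ x)) : IsIso φ := by
  have : Mono φ := ⟨fun {K} g₁ g₂ hg => Scheme.Modules.hom_ext _ _ fun V => by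
    ext t
    refine TopCat.Presheaf.section_ext ⟨F.presheaf, F.isSheaf⟩ V _ _ fun x hx => (h x).1 ?_
    have := congrArg (fun f => Scheme.Modules.Hom.app f V t) hg
    exact (RefHull.stalkMapₗ_germ φ x hx _).trans
      ((congrArg (G.presheaf.germ V x hx) this).trans (RefHull.stalkMapₗ_germ φ x hx _).symm)⟩
  have : Epi φ := ⟨fun {K} g₁ g₂ hg => Scheme.Modules.hom_ext _ _ fun V => by
    ext t
    refine TopCat.Presheaf.section_ext ⟨K.presheaf, K.isSheaf⟩ V _ _ fun x hx => ?_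
    show K.presheaf.germ V x hx (g₁.app V t) = K.presheaf.germ V x hx (g₂.app V t)
    rw [← RefHull.stalkMapₗ_germ, ← RefHull.stalkMapₗ_germ]
    obtain ⟨v, hv⟩ := (h x).2 (G.presheaf.germ V x hx t)
    obtain ⟨U, hxU, a, rfl⟩ := F.presheaf.exists_germ_eq (x := x) v
    rw [← hv, RefHull.stalkMapₗ_germ, RefHull.stalkMapₗ_germ, RefHull.stalkMapₗ_germ]
    exact congrArg (K.presheaf.germ U x hxU) (congrArg (fun f => Scheme.Modules.Hom.app f U a) hg)⟩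
  exact isIso_of_mono_of_epi φ

theorem germ_comp_rho {F F' : X.Modules} {u : F ⟶ F'} {v : (ZClos.H0 Z).obj F ⟶ F'}
    (hv : ZClos.rhoApp Z F ≫ v = u) (y : X) (m : F.presheaf.stalk y) :
    RefHull.stalkMapₗ v y (ZClos.rhoStalk Z F y m) = RefHull.stalkMapₗ u y m := by
  obtain ⟨U, hy, a, rfl⟩ := F.presheaf.exists_germ_eq (x := y) m
  rw [← stalkMapₗ_rho, RefHull.stalkMapₗ_germ, RefHull.stalkMapₗ_germ, RefHull.stalkMapₗ_germ,
    ← app_comp_apply, hv]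

theorem isIso_lift [IsLocallyNoetherian X] (hZ : StableUnderSpecialization Z) {F F' : X.Modules}
    (hP : Pure Z F') (u : F ⟶ F') (hu : ∀ x : X, x ∉ Z → Function.Bijective (RefHull.stalkMapₗ u x))
    (v : (ZClos.H0 Z).obj F ⟶ F') (hv : ZClos.rhoApp Z F ≫ v = u) : IsIso v := by
  classical
  refine isIso_of_stalk_bijective v fun x => ⟨(injective_iff_map_eq_zero _).mpr fun m hm => ?_, fun n => ?_⟩
  · obtain ⟨T, V, hxV, a, rfl⟩ := exists_rep F x m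
    rw [RefHull.stalkMapₗ_germ] at hm
    obtain ⟨W, hxW, i, j, hW⟩ := F'.presheaf.germ_eq x hxV hxV _ 0 (hm.trans (map_zero _).symm)
    rw [map_zero] at hW
    have h0 : gT Z F T W (F.presheaf.map (homOfLE (T.U.ι.image_mono (Scheme.Hom.preimage_mono T.U.ι (leOfHom i)))).op a) = 0 := by
      refine gT_eq_zero hZ F T W _ fun y hy hyZ => (hu y hyZ).1 ?_
      have hy' := hy
      rw [ZClos.ι_image_preimage] at hy'
      rw [← germ_comp_rho hv, ← germ_gT_of_mem F T W _ y hy'.2 hy'.1 hy, RefHull.stalkMapₗ_germ,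
        map_zero, ← gT_map F T (leOfHom i) a]
      have h1 := congrArg (F'.presheaf.germ W y hy'.2) hW
      rw [TopCat.Presheaf.germ_res_apply, map_zero] at h1
      rw [← RefHull.stalkMapₗ_germ, TopCat.Presheaf.germ_res_apply, RefHull.stalkMapₗ_germ]
      exact h1
    rw [← ((ZClos.H0 Z).obj F).presheaf.germ_res_apply (homOfLE (leOfHom i)) x hxW, gT_map F T (leOfHom i) a,
      h0, map_zero]
  · obtain ⟨U₀, hxU, b₀, rfl⟩ := F'.presheaf.exists_germ_eq (x := x) n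
    obtain ⟨_, ⟨V, hV, rfl⟩, hxV, hVU⟩ := X.isBasis_affineOpens.exists_subset_of_mem_open hxU U₀.isOpen
    replace hVU : V ≤ U₀ := hVU
    have hloc : ∀ y : {y : X // y ∈ V ∧ y ∉ Z}, ∃ (W : X.Opens) (_ : y.1 ∈ W) (h : W ≤ U₀) (_ : W ≤ V)
        (a : Γ(F, W)), u.app W a = F'.presheaf.map (homOfLE h).op b₀ := by
      rintro ⟨y, hyV, hyZ⟩
      obtain ⟨m, hm⟩ := (hu y hyZ).2 (F'.presheaf.germ U₀ y (hVU hyV) b₀)
      obtain ⟨W₀, hyW₀, a, rfl⟩ := F.presheaf.exists_germ_eq (x := y) m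
      rw [RefHull.stalkMapₗ_germ] at hm
      obtain ⟨W, hyW, i, j, hW⟩ := F'.presheaf.germ_eq y hyW₀ (hVU hyV) _ _ hm
      refine ⟨W ⊓ V, ⟨hyW, hyV⟩, inf_le_left.trans (leOfHom j), inf_le_right,
        F.presheaf.map (homOfLE (inf_le_left.trans (leOfHom i))).op a, ?_⟩
      refine (ConcreteCategory.congr_hom (u.mapPresheaf.naturality
        (homOfLE (inf_le_left.trans (leOfHom i) : W ⊓ V ≤ W₀)).op) a).trans ?_
      show F'.presheaf.map _ (u.app W₀ a) = _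
      rw [← res_res F' (leOfHom i) inf_le_left, ← res_res F' (leOfHom j) (inf_le_left : W ⊓ V ≤ W)]
      exact congrArg _ hW
    choose W hyW hWU hWV a ha using hloc
    obtain ⟨S, hS⟩ := (isCompact_of_subset_affine hV (iSup_le hWV)).elim_finite_subcover
      (fun y => (W y : Set X)) (fun y => (W y).isOpen) (fun z hz => Set.mem_iUnion.mpr (Opens.mem_iSup.mp hz))
    have hg : ∀ y z (hz : z ∈ W y), RefHull.stalkMapₗ u z (F.presheaf.germ (W y) z hz (a y)) =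
        F'.presheaf.germ U₀ z (hWU y hz) b₀ := fun y z hz => by
      rw [RefHull.stalkMapₗ_germ, ha, TopCat.Presheaf.germ_res_apply]
    obtain ⟨T', b, hb⟩ := exists_glue hZ F (fun i : ↥S => W i.1) (fun i => a i.1)
      (fun i j z hi hj hzZ => (hu z hzZ).1 (by rw [hg, hg]))
    let T₁ : ZClos.Cl Z := clOf hZ V ((V : Set X) ∩ ((⨆ i : ↥S, W i.1 : X.Opens) : Set X)ᶜ)
      ⟨_, (⨆ i : ↥S, W i.1 : X.Opens).isOpen.isClosed_compl, Set.inter_comm _ _⟩ (fun z hz => by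
        by_contra hzZ
        obtain ⟨y, hyS, hzy⟩ := Set.mem_iUnion₂.mp (hS (Opens.mem_iSup.mpr ⟨⟨z, hz.1, hzZ⟩, hyW _⟩))
        exact hz.2 (Opens.mem_iSup.mpr ⟨⟨y, hyS⟩, hzy⟩))
    have hle : (T' ⊔ T₁).U.ι ''ᵁ (T' ⊔ T₁).U.ι ⁻¹ᵁ V ≤ T'.U ⊓ ⨆ i : ↥S, W i.1 := by
      rw [ZClos.ι_image_preimage]
      rintro z ⟨hzT, hzV⟩
      refine ⟨ZClos.Cl.U_anti (le_sup_left : T' ≤ T' ⊔ T₁) hzT, ?_⟩
      by_contra hn
      exact ZClos.Cl.U_anti (le_sup_right : T₁ ≤ T' ⊔ T₁) hzT (subset_closure ⟨hzV, hn⟩)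
    refine ⟨((ZClos.H0 Z).obj F).presheaf.germ V x hxV
      (gT Z F (T' ⊔ T₁) V (F.presheaf.map (homOfLE hle).op b)), ?_⟩
    rw [RefHull.stalkMapₗ_germ, ← F'.presheaf.germ_res_apply (homOfLE hVU) x hxV b₀]
    congr 1
    refine sub_eq_zero.mp (hP V _ fun z hz hzZ => ?_)
    have hnot : ∀ T₀ : ZClos.Cl Z, z ∈ T₀.U := fun T₀ h => hzZ (T₀.2 h)
    have hz' : z ∈ (T' ⊔ T₁).U.ι ''ᵁ (T' ⊔ T₁).U.ι ⁻¹ᵁ V := by
      rw [ZClos.ι_image_preimage]; exact ⟨hnot _, hz⟩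
    obtain ⟨i, hi⟩ := Opens.mem_iSup.mp (hle hz').2
    rw [map_sub, TopCat.Presheaf.germ_res_apply, ← RefHull.stalkMapₗ_germ,
      germ_gT_of_mem F (T' ⊔ T₁) V _ z hz (hnot _) hz', germ_comp_rho hv,
      TopCat.Presheaf.germ_res_apply, hb i z hi (hnot _), hg]
    exact sub_self _

theorem isZero_H0_iff [IsLocallyNoetherian X] (hZ : StableUnderSpecialization Z) (F : X.Modules) :
    IsZero ((ZClos.H0 Z).obj F) ↔ ∀ x : X, x ∉ Z → Subsingleton (F.presheaf.stalk x) := by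
  constructor
  · intro h x hx
    have : Subsingleton (((ZClos.H0 Z).obj F).presheaf.stalk x) := subsingleton_of_forall_eq 0 fun m => by
      obtain ⟨V, hxV, c, rfl⟩ := ((ZClos.H0 Z).obj F).presheaf.exists_germ_eq (x := x) m
      have hc : c = 0 := congrArg (fun f => Scheme.Modules.Hom.app f V c) ((IsZero.iff_id_eq_zero _).mp h)
      rw [hc, map_zero]
    exact (rhoStalk_bijective_of_notMem F hx).1.subsingleton
  · intro h
    refine (IsZero.iff_id_eq_zero _).mpr (Scheme.Modules.hom_ext _ _ fun V => ?_)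
    ext c
    refine pure_H0 hZ F V c fun y hy hyZ => ?_
    obtain ⟨m, hm⟩ := (rhoStalk_bijective_of_notMem F hyZ).2 (((ZClos.H0 Z).obj F).presheaf.germ V y hy c)
    rw [← hm, @Subsingleton.elim _ (h y hyZ) m 0, map_zero]

end Groth.Agent.ZClosure
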