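import Groth.Agent.ShMod.Grothendieck
import Groth.Prelude.Def_ZClos

/-! Formal properties of the Z-closure. -/

set_option autoImplicit false
universe u

open CategoryTheory CategoryTheory.Limits AlgebraicGeometry TopologicalSpace Opposite

namespace Groth.Agent.ZClosure

variable {X : Scheme.{u}} {Z : Set X}

theorem hasExactColimits (K : Type u) [SmallCategory K] [IsFiltered K] :
    HasExactColimitsOfShape K X.Modules := by
  have : IsGrothendieckAbelian.{u} X.Modules :=
    Groth.Agent.ShMod.Grothendieck.isGrothendieckAbelian X.ringCatSheaf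
  exact AB5OfSize.ofShape K

/-- On `j_*(F|_U)` the unit is the image of the unit. -/
theorem resPush_map_unit (U : X.Opens) (F : X.Modules) :
    (ZClos.resPush U).map ((ZClos.resPushUnit U).app F) = (ZClos.resPushUnit U).app ((ZClos.resPush U).obj F) := by
  have := ZClos.isIso_unit_resPush (le_refl U) F
  have h := ZClos.resPushMapApp_id (le_refl U) F
  rw [ZClos.resPushMapApp, IsIso.comp_inv_eq, Category.id_comp] at h
  exact h

theorem isIso_map_unit (U : X.Opens) (F : X.Modules) :
    IsIso ((ZClos.resPush U).map ((ZClos.resPushUnit U).app F)) := by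
  rw [resPush_map_unit]; exact ZClos.isIso_unit_resPush (le_refl U) F

/-- A retraction of the unit is an inverse. -/
theorem isIso_unit_of_retraction (U : X.Opens) (F : X.Modules) (r : (ZClos.resPush U).obj F ⟶ F)
    (h : (ZClos.resPushUnit U).app F ≫ r = 𝟙 F) : IsIso ((ZClos.resPushUnit U).app F) := by
  have := ZClos.isIso_unit_resPush (le_refl U) F
  have h1 : (ZClos.resPush U).map r = inv ((ZClos.resPushUnit U).app ((ZClos.resPush U).obj F)) := by
    apply IsIso.eq_inv_of_hom_inv_id
    rw [← resPush_map_unit, ← Functor.map_comp, h]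
    exact (ZClos.resPush U).map_id F
  refine ⟨r, h, ?_⟩
  have hn := (ZClos.resPushUnit U).naturality r
  simp only [Functor.id_map] at hn
  rw [hn, h1, IsIso.hom_inv_id]
  rfl

theorem isZClosed_iff (F : X.Modules) :
    ZClos.IsZClosed Z F ↔ ∀ T : ZClos.Cl Z, IsIso (ZClos.toDiagram Z F T) := by
  constructor
  · intro h T
    obtain ⟨g, hg, -⟩ := h
    exact isIso_unit_of_retraction T.U F (colimit.ι ((ZClos.diagram Z).obj F) T ≫ g)
      ((Category.assoc _ _ _).symm.trans
        ((congrArg (· ≫ g) (ZClos.rhoApp_eq Z F T).symm).trans hg))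
  · intro h
    have hmap : ∀ {i j : ZClos.Cl Z} (f : i ⟶ j), IsIso (((ZClos.diagram Z).obj F).map f) := fun {i j} f => by
      have := h i
      have := h j
      have h' := ZClos.toDiagram_map Z F f
      rw [← IsIso.eq_inv_comp] at h'
      rw [h']
      infer_instance
    have := h ⊥
    have : IsIso (colimit.ι ((ZClos.diagram Z).obj F) ⊥) :=
      isIso_ι_of_isInitial isInitialBot _
    show IsIso (ZClos.rhoApp Z F)
    rw [ZClos.rhoApp_eq Z F ⊥]
    exact @IsIso.comp_isIso _ _ _ _ _ (ZClos.toDiagram Z F ⊥) (colimit.ι _ ⊥) (h ⊥) this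

theorem isZPure_iff (F : X.Modules) :
    ZClos.IsZPure Z F ↔ ∀ T : ZClos.Cl Z, Mono (ZClos.toDiagram Z F T) := by
  constructor
  · intro h T
    have : Mono (ZClos.rhoApp Z F) := h
    rw [ZClos.rhoApp_eq Z F T] at this
    exact @mono_of_mono _ _ _ _ _ (ZClos.toDiagram Z F T) (colimit.ι ((ZClos.diagram Z).obj F) T) this
  · intro h
    let α : (Functor.const (ZClos.Cl Z)).obj F ⟶ (ZClos.diagram Z).obj F :=
      { app := fun T => ZClos.toDiagram Z F T
        naturality := fun i j f => (Category.id_comp _).trans (ZClos.toDiagram_map Z F f).symm }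
    have : Mono α := by
      have := h
      exact NatTrans.mono_of_mono_app α
    have := hasExactColimits (X := X) (ZClos.Cl Z)
    have : Mono (colim.map α) := inferInstance
    have : IsIso (colimit.ι ((Functor.const (ZClos.Cl Z)).obj F) ⊥) :=
      @isIso_ι_of_isInitial _ _ _ _ _ isInitialBot _ _ (fun _ _ _ => inferInstanceAs (IsIso (𝟙 F)))
    show Mono (ZClos.rhoApp Z F)
    rw [ZClos.rhoApp_eq Z F ⊥,
      show ZClos.toDiagram Z F ⊥ ≫ colimit.ι ((ZClos.diagram Z).obj F) ⊥ =
        colimit.ι ((Functor.const (ZClos.Cl Z)).obj F) ⊥ ≫ colim.map α from (ι_colimMap α ⊥).symm]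
    exact @mono_comp _ _ _ _ _ _ inferInstance _ ‹Mono (colim.map α)›

theorem unit_cancel (U : X.Opens) {F G : X.Modules} (hG : IsIso ((ZClos.resPushUnit U).app G))
    (g g' : (ZClos.resPush U).obj F ⟶ G)
    (h : (ZClos.resPushUnit U).app F ≫ g = (ZClos.resPushUnit U).app F ≫ g') : g = g' := by
  have := isIso_map_unit U F
  have h2 : (ZClos.resPush U).map g = (ZClos.resPush U).map g' := by
    rw [← cancel_epi ((ZClos.resPush U).map ((ZClos.resPushUnit U).app F)), ← Functor.map_comp,
      ← Functor.map_comp]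
    exact congrArg _ h
  rw [← cancel_mono ((ZClos.resPushUnit U).app G)]
  have hn := (ZClos.resPushUnit U).naturality g
  have hn' := (ZClos.resPushUnit U).naturality g'
  simp only [Functor.id_map] at hn hn'
  rw [hn, hn', h2]

theorem hom_ext {F F' : X.Modules} (hF' : ZClos.IsZClosed Z F') {v v' : (ZClos.H0 Z).obj F ⟶ F'}
    (h : ZClos.rhoApp Z F ≫ v = ZClos.rhoApp Z F ≫ v') : v = v' := by
  refine colimit.hom_ext fun T => ?_
  rw [ZClos.rhoApp_eq Z F T] at h
  exact unit_cancel T.U ((isZClosed_iff F').mp hF' T) _ _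
    ((Category.assoc (ZClos.toDiagram Z F T) _ v).symm.trans (h.trans (Category.assoc _ _ v')))

theorem existsUnique_lift (F F' : X.Modules) (hF' : ZClos.IsZClosed Z F') (u : F ⟶ F') :
    ∃! v : (ZClos.H0 Z).obj F ⟶ F', ZClos.rhoApp Z F ≫ v = u := by
  have : IsIso (ZClos.rhoApp Z F') := hF'
  have h : ZClos.rhoApp Z F ≫ (ZClos.H0 Z).map u ≫ inv (ZClos.rhoApp Z F') = u := by
    rw [← Category.assoc, ← (ZClos.rho Z).naturality u, Category.assoc, IsIso.hom_inv_id,
      Category.comp_id]
    rfl
  exact ⟨_, h, fun v hv => hom_ext hF' (hv.trans h.symm)⟩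

theorem mono_of_le {Z' : Set X} (h : Z' ⊆ Z) (F : X.Modules) :
    (ZClos.IsZPure Z F → ZClos.IsZPure Z' F) ∧ (ZClos.IsZClosed Z F → ZClos.IsZClosed Z' F) := by
  refine ⟨fun hp => (isZPure_iff F).mpr fun T => ?_, fun hc => (isZClosed_iff F).mpr fun T => ?_⟩
  · exact (isZPure_iff F).mp hp ⟨T.1, T.2.trans h⟩
  · exact (isZClosed_iff F).mp hc ⟨T.1, T.2.trans h⟩

theorem preservesLimitsOfShape_restrict {Y : Scheme.{u}} (f : Y ⟶ X) [IsOpenImmersion f] (J : Type)
    [SmallCategory J] [FinCategory J] : PreservesLimitsOfShape J (Scheme.Modules.restrictFunctor f) := by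
  let e : Scheme.Modules.toPresheaf X ⋙ (Functor.whiskeringLeft _ _ _).obj f.opensFunctor.op ≅
      Scheme.Modules.restrictFunctor f ⋙ Scheme.Modules.toPresheaf Y :=
    NatIso.ofComponents (fun M => Iso.refl _)
  have : PreservesLimitsOfSize.{0, 0} (Scheme.Modules.toPresheaf X) := preservesLimitsOfSize_shrink _
  have : PreservesLimitsOfSize.{0, 0} (Scheme.Modules.toPresheaf Y) := preservesLimitsOfSize_shrink _
  have : PreservesLimitsOfShape J
      ((Functor.whiskeringLeft Y.Opensᵒᵖ (Opens X)ᵒᵖ Ab.{u}).obj f.opensFunctor.op) := inferInstance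
  have := comp_preservesLimitsOfShape (J := J) (Scheme.Modules.toPresheaf X)
    ((Functor.whiskeringLeft Y.Opensᵒᵖ (Opens X)ᵒᵖ Ab.{u}).obj f.opensFunctor.op)
  have := preservesLimitsOfShape_of_natIso (J := J) e
  have : ReflectsLimitsOfShape J (Scheme.Modules.toPresheaf Y) :=
    reflectsLimitsOfShape_of_reflectsIsomorphisms
  exact preservesLimitsOfShape_of_reflects_of_preserves _ (Scheme.Modules.toPresheaf Y)

theorem preservesFiniteLimits : PreservesFiniteLimits (ZClos.H0 Z) := by
  have := hasExactColimits (X := X) (ZClos.Cl Z)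
  have : PreservesFiniteLimits (ZClos.diagram Z) := by
    refine ⟨fun J _ _ => ⟨fun {K} => ⟨fun {c} hc => ⟨evaluationJointlyReflectsLimits _ fun T => ?_⟩⟩⟩⟩
    have : PreservesLimitsOfShape J (ZClos.resPush T.U) := by
      have := preservesLimitsOfShape_restrict T.U.ι J
      exact comp_preservesLimitsOfShape _ _
    exact isLimitOfPreserves (ZClos.resPush T.U) hc
  exact comp_preservesFiniteLimits _ _

end Groth.Agent.ZClosure
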