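import Groth.Agent.ZClosure.Closed
import Groth.Prelude.Def_FDesc
import Groth.Agent.ModStalk.QCoh

/-! Quasi-coherence of the Z-closure; the transition maps into it. -/

set_option autoImplicit false
universe u

open CategoryTheory CategoryTheory.Limits AlgebraicGeometry TopologicalSpace Opposite

namespace Groth.Agent.ZClosure

open Groth.Agent.ModStalk

variable {X : Scheme.{u}} {Z : Set X}

theorem rhoStalk_smul (F : X.Modules) (y : X) (r : X.presheaf.stalk y) (m : F.presheaf.stalk y) :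
    ZClos.rhoStalk Z F y (r • m) = r • ZClos.rhoStalk Z F y m := by
  rw [← stalkMapₗ_rho, ← stalkMapₗ_rho]
  exact map_smul _ r m

/-- Sections over an affine open come from the complement of one closed subset of `Z`. -/
theorem exists_rep_affine [IsLocallyNoetherian X] (hZ : StableUnderSpecialization Z) (F : X.Modules)
    {V : X.Opens} (hV : IsAffineOpen V) (c : Γ((ZClos.H0 Z).obj F, V)) :
    ∃ (T : ZClos.Cl Z) (a : Γ(F, T.U.ι ''ᵁ T.U.ι ⁻¹ᵁ V)), c = gT Z F T V a := by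
  classical
  choose Tr W hW hxW a ha using fun x : ↥V => exists_rep_section F V c x.1 x.2
  obtain ⟨S, hS⟩ := (isCompact_of_subset_affine hV le_rfl).elim_finite_subcover
    (fun x => (W x : Set X)) (fun x => (W x).isOpen) (fun x hx => Set.mem_iUnion.mpr ⟨⟨x, hx⟩, hxW _⟩)
  obtain ⟨T', b, hb⟩ := exists_glue hZ F (fun i : ↥S => (Tr i.1).U.ι ''ᵁ (Tr i.1).U.ι ⁻¹ᵁ W i.1)
    (fun i => a i.1) (fun i j y hi hj hyZ => by
      have hi' := hi; have hj' := hj
      rw [ZClos.ι_image_preimage] at hi' hj'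
      apply (rhoStalk_bijective_of_notMem F hyZ).1
      rw [← germ_of_rep F (ha i.1) y hi'.2 hi'.1 hi, ← germ_of_rep F (ha j.1) y hj'.2 hj'.1 hj])
  let T'' : ZClos.Cl Z := T' ⊔ S.sup Tr
  have hle : T''.U.ι ''ᵁ T''.U.ι ⁻¹ᵁ V ≤
      T'.U ⊓ ⨆ i : ↥S, (Tr i.1).U.ι ''ᵁ (Tr i.1).U.ι ⁻¹ᵁ W i.1 := by
    rw [ZClos.ι_image_preimage]
    rintro y ⟨hyT, hyV⟩
    obtain ⟨x, hxS, hyx⟩ := Set.mem_iUnion₂.mp (hS hyV)
    refine ⟨ZClos.Cl.U_anti (le_sup_left : T' ≤ T'') hyT, Opens.mem_iSup.mpr ⟨⟨x, hxS⟩, ?_⟩⟩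
    rw [ZClos.ι_image_preimage]
    exact ⟨ZClos.Cl.U_anti ((Finset.le_sup hxS).trans le_sup_right : Tr x ≤ T'') hyT, hyx⟩
  refine ⟨T'', F.presheaf.map (homOfLE hle).op b, sub_eq_zero.mp (pure_H0 hZ F _ _ fun y hy hyZ => ?_)⟩
  have hnot : ∀ T₀ : ZClos.Cl Z, y ∈ T₀.U := fun T₀ h => hyZ (T₀.2 h)
  have hy'' : y ∈ T''.U.ι ''ᵁ T''.U.ι ⁻¹ᵁ V := by rw [ZClos.ι_image_preimage]; exact ⟨hnot _, hy⟩
  rw [map_sub, germ_gT_of_mem F T'' V _ y hy (hnot _) hy'', TopCat.Presheaf.germ_res_apply]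
  obtain ⟨x, hxS, hyx⟩ := Set.mem_iUnion₂.mp (hS hy)
  have hyi : y ∈ (Tr x).U.ι ''ᵁ (Tr x).U.ι ⁻¹ᵁ W x := by rw [ZClos.ι_image_preimage]; exact ⟨hnot _, hyx⟩
  rw [hb ⟨x, hxS⟩ y hyi (hnot _), ← germ_of_rep F (ha x) y hyx (hnot _) hyi]
  exact sub_self _

theorem isQuasiSeparated_of_subset_affine [IsLocallyNoetherian X] {V W : X.Opens} (hV : IsAffineOpen V)
    (h : W ≤ V) : IsQuasiSeparated (W : Set X) :=
  hV.isQuasiSeparated.of_subset h

/-- The Z-closure of a quasi-coherent module is quasi-coherent. -/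
theorem isQuasicoherent_H0 [IsLocallyNoetherian X] (hZ : StableUnderSpecialization Z) (F : X.Modules)
    [F.IsQuasicoherent] : Coh.IsQCoh ((ZClos.H0 Z).obj F) := by
  refine isQuasicoherent_of_localizing _ (fun U hU g t => ?_) (fun U hU g s hs => ?_)
  · obtain ⟨T, a, rfl⟩ := exists_rep_affine hZ F (hU.basicOpen g) t
    have hWU : T.U.ι ''ᵁ T.U.ι ⁻¹ᵁ U ≤ U := T.U.ι.image_preimage_le U
    have hb : X.basicOpen (X.presheaf.map (homOfLE hWU).op g) ≤ T.U.ι ''ᵁ T.U.ι ⁻¹ᵁ X.basicOpen g := by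
      rw [Scheme.basicOpen_res, ZClos.ι_image_preimage, ZClos.ι_image_preimage]
      exact le_inf (inf_le_left.trans inf_le_left) inf_le_right
    obtain ⟨n, s, hs⟩ := exists_extend_compact F (isCompact_of_subset_affine hU hWU)
      (isQuasiSeparated_of_subset_affine hU hWU) (X.presheaf.map (homOfLE hWU).op g)
      (F.presheaf.map (homOfLE hb).op a)
    refine ⟨n, gT Z F T U s, sub_eq_zero.mp (pure_H0 hZ F _ _ fun y hy hyZ => ?_)⟩
    have hyT : y ∈ T.U := fun h => hyZ (T.2 h)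
    have hyU : y ∈ T.U.ι ''ᵁ T.U.ι ⁻¹ᵁ U := by
      rw [ZClos.ι_image_preimage]; exact ⟨hyT, X.basicOpen_le g hy⟩
    have hyD : y ∈ T.U.ι ''ᵁ T.U.ι ⁻¹ᵁ X.basicOpen g := by
      rw [ZClos.ι_image_preimage]; exact ⟨hyT, hy⟩
    have hy' : y ∈ X.basicOpen (X.presheaf.map (homOfLE hWU).op g) := by
      rw [Scheme.basicOpen_res]; exact ⟨hyU, hy⟩
    have h1 := congrArg (F.presheaf.germ _ y hy') hs
    rw [TopCat.Presheaf.germ_res_apply, germ_smul, map_pow, TopCat.Presheaf.germ_res_apply,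
      TopCat.Presheaf.germ_res_apply, TopCat.Presheaf.germ_res_apply] at h1
    rw [map_sub, TopCat.Presheaf.germ_res_apply, germ_smul, map_pow, TopCat.Presheaf.germ_res_apply,
      germ_gT_of_mem F T U s y (X.basicOpen_le g hy) hyT hyU, germ_gT_of_mem F T _ a y hy hyT hyD, h1,
      rhoStalk_smul, sub_self]
  · obtain ⟨T, a, rfl⟩ := exists_rep_affine hZ F hU s
    have hDW : T.U.ι ''ᵁ T.U.ι ⁻¹ᵁ X.basicOpen g ≤ T.U.ι ''ᵁ T.U.ι ⁻¹ᵁ U :=
      T.U.ι.image_mono (Scheme.Hom.preimage_mono T.U.ι (X.basicOpen_le g))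
    obtain ⟨T', hT'⟩ := exists_cl_support hZ F (F.presheaf.map (homOfLE hDW).op a) fun y hy hyZ => by
      have hy0 := hy
      rw [ZClos.ι_image_preimage] at hy0
      apply (rhoStalk_bijective_of_notMem F hyZ).1
      rw [map_zero, TopCat.Presheaf.germ_res_apply,
        ← germ_gT_of_mem F T U a y (X.basicOpen_le g hy0.2) hy0.1 (hDW hy),
        ← ((ZClos.H0 Z).obj F).presheaf.germ_res_apply (homOfLE (X.basicOpen_le g)) y hy0.2, hs, map_zero]
    let W : X.Opens := (T.U ⊓ T'.U) ⊓ U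
    have hW : W ≤ T.U.ι ''ᵁ T.U.ι ⁻¹ᵁ U := by
      rw [ZClos.ι_image_preimage]; exact inf_le_inf_right _ inf_le_left
    obtain ⟨n, hn⟩ := exists_pow_smul_eq_zero_compact F (isCompact_of_subset_affine hU inf_le_right : IsCompact (W : Set X))
      (X.presheaf.map (homOfLE (inf_le_right : W ≤ U)).op g) (F.presheaf.map (homOfLE hW).op a)
      (eq_of_germ_eq F _ _ fun y hy => by
        have hy0 := hy
        rw [Scheme.basicOpen_res] at hy0
        have hyD : y ∈ T.U.ι ''ᵁ T.U.ι ⁻¹ᵁ X.basicOpen g := by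
          rw [ZClos.ι_image_preimage]; exact ⟨hy0.1.1.1, hy0.2⟩
        have h1 := hT' y hyD hy0.1.1.2
        rw [TopCat.Presheaf.germ_res_apply] at h1
        rw [TopCat.Presheaf.germ_res_apply, TopCat.Presheaf.germ_res_apply, map_zero, h1])
    refine ⟨n, pure_H0 hZ F U _ fun y hy hyZ => ?_⟩
    have hyW : y ∈ W := ⟨⟨fun h => hyZ (T.2 h), fun h => hyZ (T'.2 h)⟩, hy⟩
    have h1 := congrArg (F.presheaf.germ W y hyW) hn
    rw [germ_smul, map_pow, TopCat.Presheaf.germ_res_apply, TopCat.Presheaf.germ_res_apply, map_zero] at h1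
    rw [germ_smul, map_pow, germ_gT_of_mem F T U a y hy hyW.1.1 (hW hyW), ← rhoStalk_smul, h1, map_zero]

/-- For a pure module the maps into the Z-closure are monomorphisms. -/
theorem mono_colimit_ι [IsLocallyNoetherian X] (F : X.Modules) (hP : Pure Z F) (T : ZClos.Cl Z) :
    Mono (colimit.ι ((ZClos.diagram Z).obj F) T) := by
  refine @Functor.mono_of_mono_map _ _ _ _ (Scheme.Modules.toPresheaf X) _ _ _ _ ?_
  refine (NatTrans.mono_iff_mono_app _).mpr fun V => (AddCommGrpCat.mono_iff_injective _).mpr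
    ((injective_iff_map_eq_zero _).mpr fun a ha => ?_)
  refine hP (T.U.ι ''ᵁ T.U.ι ⁻¹ᵁ V.unop) a fun y hy hyZ => ?_
  have hy0 := hy
  erw [ZClos.ι_image_preimage] at hy0
  apply (rhoStalk_bijective_of_notMem F hyZ).1
  rw [map_zero, ← germ_gT_of_mem F T V.unop a y hy0.2 hy0.1 hy]
  rw [show gT Z F T V.unop a = 0 from ha, map_zero]

/-- A coherent module without associated points in `Z` has no sections supported in `Z`. -/
theorem pure_of_assPoint [IsLocallyNoetherian X] (F : X.Modules) [F.IsQuasicoherent]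
    (h : ∀ x ∈ AssSch.Ass F, x ∉ Z) : Pure Z F := by
  intro V a ha
  refine section_eq_zero F a fun x hx => ?_
  by_contra hne
  obtain ⟨_, ⟨U, hU, rfl⟩, hxU, hUV⟩ := X.isBasis_affineOpens.exists_subset_of_mem_open hx V.isOpen
  replace hUV : U ≤ V := hUV
  obtain ⟨y, -, hy, hw⟩ := exists_isWeakAssPoint hU F ⟨x, hxU⟩
    (F.presheaf.map (homOfLE hUV).op a) (by rw [TopCat.Presheaf.germ_res_apply]; exact hne)
  rw [TopCat.Presheaf.germ_res_apply] at hy
  exact hy (ha y.1 (hUV y.2) fun hyZ => h y.1 ((isAssPoint_iff_isWeakAssPoint F y.1).mpr hw) hyZ)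

end Groth.Agent.ZClosure
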