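import Groth.Agent.ZClosure.Closed

/-! Locality of Z-purity and Z-closedness. -/

set_option autoImplicit false
universe u

open CategoryTheory CategoryTheory.Limits AlgebraicGeometry TopologicalSpace Opposite

namespace Groth.Agent.ZClosure

open Groth.Agent.ModStalk

variable {X : Scheme.{u}} {Z : Set X}

/-- Germ vanishing for restricted modules. -/
theorem germ_restrict_eq_zero_iff (F : X.Modules) (V : X.Opens) (W : (V : Scheme.{u}).Opens) (w : V)
    (hw : w ∈ W) (a : Γ(F, V.ι ''ᵁ W)) (hw' : V.ι w ∈ V.ι ''ᵁ W) :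
    ((Scheme.Modules.restrictFunctor V.ι).obj F).presheaf.germ W w hw a = 0 ↔
      F.presheaf.germ (V.ι ''ᵁ W) (V.ι w) hw' a = 0 := by
  have h := ConcreteCategory.congr_hom
    (Scheme.Modules.germ_restrictStalkNatIso_hom_app V.ι w F hw) a
  constructor
  · intro h0
    exact h.symm.trans ((congrArg (ConcreteCategory.hom ((Scheme.Modules.restrictStalkNatIso V.ι w).hom.app F))
      h0).trans (map_zero (ConcreteCategory.hom ((Scheme.Modules.restrictStalkNatIso V.ι w).hom.app F))))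
  · intro h0
    apply (ConcreteCategory.bijective_of_isIso ((Scheme.Modules.restrictStalkNatIso V.ι w).hom.app F)).1
    exact (h.trans h0).trans (map_zero _).symm

theorem pure_restrict (F : X.Modules) (h : Pure Z F) (V : X.Opens) :
    Pure (V.ι.base ⁻¹' Z) ((Scheme.Modules.restrictFunctor V.ι).obj F) := by
  intro W a ha
  refine h (V.ι ''ᵁ W) a fun y hy hyZ => ?_
  obtain ⟨w, hw, rfl⟩ := hy
  exact (germ_restrict_eq_zero_iff F V W w hw a ⟨w, hw, rfl⟩).mp (ha w hw hyZ)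

theorem ext_restrict (F : X.Modules) (h : Ext Z F) (V : X.Opens) :
    Ext (V.ι.base ⁻¹' Z) ((Scheme.Modules.restrictFunctor V.ι).obj F) := by
  intro W W' hle hW a
  refine h (V.ι ''ᵁ W) (V.ι ''ᵁ W') (V.ι.image_mono hle) (fun y hy hyZ => ?_) a
  obtain ⟨w, hw, rfl⟩ := hy
  exact ⟨w, hW w hw hyZ, rfl⟩

theorem pure_of_cover {ι : Type u} (V : ι → X.Opens) (hV : iSup V = ⊤) (F : X.Modules)
    (h : ∀ i, Pure ((V i).ι.base ⁻¹' Z) ((Scheme.Modules.restrictFunctor (V i).ι).obj F)) : Pure Z F := by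
  intro W a ha
  refine section_eq_zero F a fun x hx => ?_
  obtain ⟨i, hxi⟩ := Opens.mem_iSup.mp (hV.ge (Opens.mem_top x))
  have h0 := h i ((V i).ι ⁻¹ᵁ W) (F.presheaf.map (homOfLE ((V i).ι.image_preimage_le W)).op a)
    fun w hw hwZ => by
      refine (germ_restrict_eq_zero_iff F (V i) _ w hw _ ⟨w, hw, rfl⟩).mpr ?_
      exact (F.presheaf.germ_res_apply _ _ _ a).trans (ha _ hw hwZ)
  have hx' : x ∈ (V i).ι ''ᵁ (V i).ι ⁻¹ᵁ W := by rw [ZClos.ι_image_preimage]; exact ⟨hxi, hx⟩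
  rw [← F.presheaf.germ_res_apply (homOfLE ((V i).ι.image_preimage_le W)) x hx' a]
  exact (congrArg (F.presheaf.germ _ x hx') h0).trans (map_zero _)

theorem ext_of_cover {ι : Type u} (V : ι → X.Opens) (hV : iSup V = ⊤) (F : X.Modules) (hP : Pure Z F)
    (h : ∀ i, Ext ((V i).ι.base ⁻¹' Z) ((Scheme.Modules.restrictFunctor (V i).ι).obj F)) : Ext Z F := by
  intro W W' hle hW a
  have hex := fun i => h i ((V i).ι ⁻¹ᵁ W) ((V i).ι ⁻¹ᵁ W') (Scheme.Hom.preimage_mono (V i).ι hle)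
    (fun w hw hwZ => hW _ hw hwZ) (F.presheaf.map (homOfLE ((V i).ι.image_preimage_le W')).op a)
  choose b hb using hex
  have hgerm : ∀ i (y : X) (hy : y ∈ (V i).ι ''ᵁ (V i).ι ⁻¹ᵁ W') (hy' : y ∈ W')
      (hy'' : y ∈ (V i).ι ''ᵁ (V i).ι ⁻¹ᵁ W),
      F.presheaf.germ ((V i).ι ''ᵁ (V i).ι ⁻¹ᵁ W) y hy'' (b i) = F.presheaf.germ W' y hy' a := by
    intro i y hy hy' hy''
    exact germ_eq_of_res_eq F ((V i).ι.image_mono (Scheme.Hom.preimage_mono (V i).ι hle))
      ((V i).ι.image_preimage_le W') (hb i) y hy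
  obtain ⟨c, hc, -⟩ := TopCat.Sheaf.existsUnique_gluing' ⟨F.presheaf, F.isSheaf⟩
    (fun i => (V i).ι ''ᵁ (V i).ι ⁻¹ᵁ W) W (fun i => homOfLE ((V i).ι.image_preimage_le W))
    (fun x hx => by
      obtain ⟨i, hxi⟩ := Opens.mem_iSup.mp (hV.ge (Opens.mem_top x))
      exact Opens.mem_iSup.mpr ⟨i, by rw [ZClos.ι_image_preimage]; exact ⟨hxi, hx⟩⟩) b
    (fun i j => by
      refine sub_eq_zero.mp (hP _ _ fun y hy hyZ => ?_)
      erw [map_sub, TopCat.Presheaf.germ_res_apply, TopCat.Presheaf.germ_res_apply]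
      have hi : y ∈ (V i).ι ''ᵁ (V i).ι ⁻¹ᵁ W := hy.1
      have hj : y ∈ (V j).ι ''ᵁ (V j).ι ⁻¹ᵁ W := hy.2
      rw [ZClos.ι_image_preimage] at hi hj
      have hy' := hW y hi.2 hyZ
      rw [hgerm i y (by rw [ZClos.ι_image_preimage]; exact ⟨hi.1, hy'⟩) hy',
        hgerm j y (by rw [ZClos.ι_image_preimage]; exact ⟨hj.1, hy'⟩) hy', sub_self])
  refine ⟨c, sub_eq_zero.mp (hP _ _ fun y hy hyZ => ?_)⟩
  obtain ⟨i, hyi⟩ := Opens.mem_iSup.mp (hV.ge (Opens.mem_top y))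
  have hy1 : y ∈ (V i).ι ''ᵁ (V i).ι ⁻¹ᵁ W' := by rw [ZClos.ι_image_preimage]; exact ⟨hyi, hy⟩
  have hy2 : y ∈ (V i).ι ''ᵁ (V i).ι ⁻¹ᵁ W := by rw [ZClos.ι_image_preimage]; exact ⟨hyi, hle hy⟩
  rw [map_sub, TopCat.Presheaf.germ_res_apply]
  have h1 := congrArg (F.presheaf.germ _ y hy2) (hc i)
  erw [TopCat.Presheaf.germ_res_apply] at h1
  rw [h1, hgerm i y hy1 hy hy2, sub_self]

theorem stableUnderSpecialization_preimage (hZ : StableUnderSpecialization Z) (V : X.Opens) :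
    StableUnderSpecialization (V.ι.base ⁻¹' Z : Set ((V : Scheme.{u}))) :=
  fun _ _ h ha => hZ (h.map V.ι.continuous) ha

theorem isZPure_local [IsLocallyNoetherian X] (hZ : StableUnderSpecialization Z) (F : X.Modules)
    {ι : Type u} (V : ι → X.Opens) (hV : iSup V = ⊤) :
    ZClos.IsZPure Z F ↔
      ∀ i, ZClos.IsZPure ((V i).ι.base ⁻¹' Z) ((Scheme.Modules.restrictFunctor (V i).ι).obj F) := by
  rw [isZPure_iff_pure hZ]
  refine ⟨fun h i => ?_, fun h => pure_of_cover V hV F fun i => ?_⟩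
  · exact (isZPure_iff_pure (stableUnderSpecialization_preimage hZ (V i)) _).mpr (pure_restrict F h (V i))
  · exact (isZPure_iff_pure (stableUnderSpecialization_preimage hZ (V i)) _).mp (h i)

theorem isZClosed_local [IsLocallyNoetherian X] (hZ : StableUnderSpecialization Z) (F : X.Modules)
    {ι : Type u} (V : ι → X.Opens) (hV : iSup V = ⊤) :
    ZClos.IsZClosed Z F ↔
      ∀ i, ZClos.IsZClosed ((V i).ι.base ⁻¹' Z) ((Scheme.Modules.restrictFunctor (V i).ι).obj F) := by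
  rw [isZClosed_iff_ext hZ]
  refine ⟨fun h i => ?_, fun h => ?_⟩
  · exact (isZClosed_iff_ext (stableUnderSpecialization_preimage hZ (V i)) _).mpr
      ⟨pure_restrict F h.1 (V i), ext_restrict F h.2 (V i)⟩
  · have h' := fun i => (isZClosed_iff_ext (stableUnderSpecialization_preimage hZ (V i)) _).mp (h i)
    have hP := pure_of_cover V hV F fun i => (h' i).1
    exact ⟨hP, ext_of_cover V hV F hP fun i => (h' i).2⟩

end Groth.Agent.ZClosure
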