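import Groth.Agent.ZClosure.QCoh
import Groth.Agent.ZClosure.Local
import Groth.Agent.ModStalk.DepthTwo

/-! Depth two along `Z` and Z-closedness. -/

set_option autoImplicit false
universe u

open CategoryTheory CategoryTheory.Limits AlgebraicGeometry TopologicalSpace Opposite

namespace Groth.Agent.ZClosure

open Groth.Agent.ModStalk

variable {X : Scheme.{u}} {Z : Set X}

/-- No associated point of a module without sections supported in `Z` lies in `Z`. -/
theorem not_isWeakAssPoint_of_pure [IsLocallyNoetherian X] (hZ : StableUnderSpecialization Z) (G : X.Modules)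
    [G.IsQuasicoherent] (hP : Pure Z G) {x : X} (hx : x ∈ Z) : ¬ Curv2.IsWeakAssPoint G x := by
  intro h
  obtain ⟨_, ⟨V, hV, rfl⟩, hxV, -⟩ :=
    X.isBasis_affineOpens.exists_subset_of_mem_open (Set.mem_univ x) isOpen_univ
  have : IsNoetherianRing Γ(X, V) := IsLocallyNoetherian.component_noetherian ⟨V, hV⟩
  obtain ⟨-, s, hs⟩ := primeIdealOf_mem_associatedPrimes hV G ⟨x, hxV⟩ ((isAssPoint_iff_isWeakAssPoint G x).mpr h)
  have hzero : s = 0 := hP V s fun y hy hyZ => by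
    by_contra h0
    refine hyZ (hZ (specializes_of_primeIdeal_le hV (x := ⟨y, hy⟩) (y := ⟨x, hxV⟩) ?_) hx)
    rw [hs, Ideal.IsPrime.radical_le_iff inferInstance]
    intro c hc
    exact ann_le_of_germ_ne_zero G hV ⟨y, hy⟩ s h0 (by simpa [Submodule.mem_colon_singleton] using hc)
  have h1 : (1 : Γ(X, V)) ∈ (hV.primeIdealOf ⟨x, hxV⟩).asIdeal := by
    rw [hs]
    exact Ideal.le_radical (by simp [Submodule.mem_colon_singleton, hzero])
  exact (hV.primeIdealOf ⟨x, hxV⟩).2.ne_top ((Ideal.eq_top_iff_one _).mpr h1)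

theorem cancel_two {R M : Type u} [CommRing R] [AddCommGroup M] [Module R M] {A A' : R} {x x' s s' : M}
    (hA : IsUnit A) (hA' : IsUnit A') (h : A • x = s) (h' : A' • x' = s') (he : A' • s = A • s') : x = x' := by
  apply (hA'.mul hA).smul_left_cancel.mp
  rw [mul_smul, h, he, ← h', smul_smul, mul_comm]

/-- Extension across `Z` forces depth at least two at the points of `Z`. -/
theorem two_le_depth [IsLocallyNoetherian X] (hZ : StableUnderSpecialization Z) (G : X.Modules)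
    [G.IsQuasicoherent] (hP : Pure Z G) (hE : Ext Z G) {x : X} (hx : x ∈ Z)
    [Module.Finite (X.presheaf.stalk x) (G.presheaf.stalk x)] :
    (2 : ℕ∞) ≤ LocCoh.depth (X.presheaf.stalk x) (G.presheaf.stalk x) := by
  classical
  have hnass : ¬ Curv2.IsAssPoint G x := fun h =>
    not_isWeakAssPoint_of_pure hZ G hP hx ((isAssPoint_iff_isWeakAssPoint G x).mp h)
  have h1 : (1 : ℕ∞) ≤ LocCoh.depth (X.presheaf.stalk x) (G.presheaf.stalk x) := by
    rw [LocCoh.depth, IdealDepth.one_le_iff_associatedPrimes]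
    intro p hp hle
    have := (IsLocalRing.maximalIdeal.isMaximal (X.presheaf.stalk x)).eq_of_le hp.isPrime.ne_top hle
    rw [← this] at hp
    exact hnass hp
  obtain ⟨a, ha, hreg⟩ := IdealDepth.one_le_iff_exists.mp h1
  show (2 : ℕ∞) ≤ LocCoh.idealDepth _ _
  rw [← IdealDepth.add_one_eq ha hreg]
  refine le_trans (show (2 : ℕ∞) = 1 + 1 from by norm_num).le (add_le_add ?_ le_rfl)
  rw [IdealDepth.one_le_iff_associatedPrimes]
  intro p hp hle
  have hpm := (IsLocalRing.maximalIdeal.isMaximal (X.presheaf.stalk x)).eq_of_le hp.isPrime.ne_top hle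
  obtain ⟨-, q, hq⟩ := isAssociatedPrime_iff.mp hp
  obtain ⟨m, rfl⟩ := Submodule.Quotient.mk_surjective _ q
  suffices hm : ∃ v, m = a • v by
    obtain ⟨v, rfl⟩ := hm
    have h0 : (Submodule.Quotient.mk (a • v) : QuotSMulTop a (G.presheaf.stalk x)) = 0 :=
      (Submodule.Quotient.mk_eq_zero _).mpr (Submodule.smul_mem_pointwise_smul v a ⊤ trivial)
    refine hp.isPrime.ne_top ((Ideal.eq_top_iff_one _).mpr ?_)
    rw [hq, Submodule.mem_colon_singleton, Submodule.mem_bot, h0, smul_zero]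
  have hkill : ∀ c ∈ IsLocalRing.maximalIdeal (X.presheaf.stalk x), ∃ v, c • m = a • v := fun c hc => by
    have hc' := (hpm ▸ hc : c ∈ p)
    rw [hq, Submodule.mem_colon_singleton, Submodule.mem_bot, ← Submodule.Quotient.mk_smul,
      Submodule.Quotient.mk_eq_zero] at hc'
    obtain ⟨v, -, hv⟩ := hc'
    exact ⟨v, hv.symm⟩
  obtain ⟨_, ⟨V, hV, rfl⟩, hxV, -⟩ :=
    X.isBasis_affineOpens.exists_subset_of_mem_open (Set.mem_univ x) isOpen_univ
  have : IsNoetherianRing Γ(X, V) := IsLocallyNoetherian.component_noetherian ⟨V, hV⟩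
  letI := TopCat.Presheaf.algebra_section_stalk X.presheaf (⟨x, hxV⟩ : V)
  haveI := hV.isLocalization_stalk ⟨x, hxV⟩
  obtain ⟨c₀, t, hc₀, ht⟩ := exists_smul_eq_germ G hV x hxV m
  obtain ⟨⟨g, u⟩, hgu⟩ := IsLocalization.surj (hV.primeIdealOf ⟨x, hxV⟩).asIdeal.primeCompl a
  have hu : IsUnit (X.presheaf.germ V x hxV u.1) :=
    (Scheme.mem_basicOpen _ _ _ hxV).mp ((germ_mem_primeIdeal_iff hV ⟨x, hxV⟩ u.1).mp u.2)
  have hgu' : a * X.presheaf.germ V x hxV u.1 = X.presheaf.germ V x hxV g := hgu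
  have hgreg : IsSMulRegular (G.presheaf.stalk x) (X.presheaf.germ V x hxV g) := by
    rw [← hgu']; exact hreg.mul (hu.isSMulRegular _)
  obtain ⟨T, hT⟩ := (inferInstance : IsNoetherianRing Γ(X, V)).noetherian (hV.primeIdealOf ⟨x, hxV⟩).asIdeal
  have hstep : ∀ c : T, ∃ (d : Γ(X, V)) (s : Γ(G, V)), x ∈ X.basicOpen d ∧ d • c.1 • t = g • s := by
    intro c
    have hcmax : X.presheaf.germ V x hxV c.1 ∈ IsLocalRing.maximalIdeal (X.presheaf.stalk x) := by
      rw [IsLocalRing.mem_maximalIdeal, mem_nonunits_iff, ← Scheme.mem_basicOpen _ _ _ hxV]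
      exact fun h => (germ_mem_primeIdeal_iff hV ⟨x, hxV⟩ c.1).mpr h (hT ▸ Submodule.subset_span c.2)
    obtain ⟨v, hv⟩ := hkill _ hcmax
    obtain ⟨e, s, he, hs⟩ := exists_smul_eq_germ G hV x hxV (X.presheaf.germ V x hxV c₀ • hu.unit⁻¹.val • v)
    have h0 : G.presheaf.germ V x hxV (e • c.1 • t - g • s) = 0 := by
      rw [map_sub, germ_smul, germ_smul, germ_smul, ← ht, ← hs, sub_eq_zero, ← hgu', smul_comm _ _ m, hv]
      simp only [smul_smul]
      congr 1
      linear_combination (-(X.presheaf.germ V x hxV e * X.presheaf.germ V x hxV c₀ * a)) * hu.mul_val_inv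
    obtain ⟨d, hd, hd0⟩ := exists_smul_eq_zero_of_germ G hV x hxV _ h0
    rw [smul_sub, sub_eq_zero, smul_smul, smul_comm d g] at hd0
    exact ⟨d * e, d • s, by rw [Scheme.basicOpen_mul]; exact ⟨hd, he⟩, hd0⟩
  choose d s hd hs using hstep
  have hpair : ∀ p : T × T, ∃ e : Γ(X, V), x ∈ X.basicOpen e ∧
      e • ((d p.2 * p.2.1) • s p.1 - (d p.1 * p.1.1) • s p.2) = 0 := by
    intro p
    refine exists_smul_eq_zero_of_germ G hV x hxV _ (hgreg.right_eq_zero_of_smul ?_)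
    rw [← germ_smul, smul_sub, smul_comm g, smul_comm g, ← hs, ← hs]
    simp only [smul_smul]
    rw [← sub_smul, show d p.2 * p.2.1 * (d p.1 * p.1.1) - d p.1 * p.1.1 * (d p.2 * p.2.1) = 0 by ring,
      zero_smul, map_zero]
  choose e he he0 using hpair
  let D : Γ(X, V) := (∏ c, d c) * ∏ p, e p
  let W : X.Opens := X.basicOpen D
  have hWV : W ≤ V := X.basicOpen_le D
  have hxW : x ∈ W := by
    rw [Scheme.mem_basicOpen _ _ _ hxV, map_mul, map_prod, map_prod, IsUnit.mul_iff, IsUnit.prod_univ_iff,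
      IsUnit.prod_univ_iff]
    exact ⟨fun c => (Scheme.mem_basicOpen _ _ _ hxV).mp (hd c), fun p => (Scheme.mem_basicOpen _ _ _ hxV).mp (he p)⟩
  have hDu : ∀ y (hy : y ∈ W), (∀ c, IsUnit (X.presheaf.germ V y (hWV hy) (d c))) ∧
      ∀ p, IsUnit (X.presheaf.germ V y (hWV hy) (e p)) := fun y hy => by
    have h := (Scheme.mem_basicOpen _ _ _ (hWV hy)).mp hy
    rw [map_mul, map_prod, map_prod, IsUnit.mul_iff, IsUnit.prod_univ_iff, IsUnit.prod_univ_iff] at h
    exact h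
  let Wc : T → X.Opens := fun c => W ⊓ X.basicOpen (d c * c.1)
  have hloc : ∀ c : T, ∃ b : Γ(G, Wc c), ∀ (y : X) (hy : y ∈ Wc c),
      X.presheaf.germ V y (hWV hy.1) (d c * c.1) • G.presheaf.germ (Wc c) y hy b =
        G.presheaf.germ V y (hWV hy.1) (s c) := by
    intro c
    have hle : Wc c ≤ V := inf_le_left.trans hWV
    have hu' : IsUnit (X.presheaf.map (homOfLE hle).op (d c * c.1)) :=
      RingedSpace.isUnit_of_isUnit_germ X.toRingedSpace (Wc c) _ fun y hy => by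
        show IsUnit (X.presheaf.germ (Wc c) y hy (X.presheaf.map (homOfLE hle).op (d c * c.1)))
        rw [X.presheaf.germ_res_apply (homOfLE hle) y hy (d c * c.1)]
        exact (Scheme.mem_basicOpen _ _ _ (hle hy)).mp hy.2
    refine ⟨hu'.unit⁻¹.val • G.presheaf.map (homOfLE hle).op (s c), fun y hy => ?_⟩
    rw [germ_smul, TopCat.Presheaf.germ_res_apply, smul_smul,
      ← X.presheaf.germ_res_apply (homOfLE hle) y hy (d c * c.1), ← map_mul, IsUnit.mul_val_inv, map_one, one_smul]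
  choose b hb using hloc
  have hbu : ∀ (c : T) (y : X) (hy : y ∈ Wc c), IsUnit (X.presheaf.germ V y (hWV hy.1) (d c * c.1)) :=
    fun c y hy => (Scheme.mem_basicOpen _ _ _ (hWV hy.1)).mp hy.2
  obtain ⟨b', hb', -⟩ := TopCat.Sheaf.existsUnique_gluing' ⟨G.presheaf, G.isSheaf⟩ Wc (iSup Wc)
    (fun c => homOfLE (le_iSup Wc c)) le_rfl b (fun c c' => by
      refine TopCat.Presheaf.section_ext ⟨G.presheaf, G.isSheaf⟩ _ _ _ fun y hy => ?_
      erw [TopCat.Presheaf.germ_res_apply, TopCat.Presheaf.germ_res_apply]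
      show G.presheaf.germ (Wc c) y hy.1 (b c) = G.presheaf.germ (Wc c') y hy.2 (b c')
      refine cancel_two (hbu c y hy.1) (hbu c' y hy.2) (hb c y hy.1) (hb c' y hy.2) ?_
      have h1 : G.presheaf.germ V y (hWV hy.1.1) (e (c, c') • ((d c' * c'.1) • s c - (d c * c.1) • s c')) = 0 :=
        (congrArg _ (he0 (c, c'))).trans (map_zero _)
      rw [germ_smul, ((hDu y hy.1.1).2 (c, c')).smul_eq_zero, map_sub, sub_eq_zero, germ_smul, germ_smul] at h1
      exact h1)
  obtain ⟨β, hβ⟩ := hE W (iSup Wc) (iSup_le fun c => inf_le_left) (fun y hy hyZ => by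
    by_contra hy'
    refine hyZ (hZ (specializes_of_primeIdeal_le hV (x := ⟨y, hWV hy⟩) (y := ⟨x, hxV⟩) ?_) hx)
    rw [← hT, Submodule.span_le]
    intro c hc
    by_contra hcy
    refine hy' (Opens.mem_iSup.mpr ⟨⟨c, hc⟩, hy, (Scheme.mem_basicOpen _ _ _ (hWV hy)).mpr ?_⟩)
    rw [map_mul]
    exact ((hDu y hy).1 ⟨c, hc⟩).mul
      ((Scheme.mem_basicOpen _ _ _ (hWV hy)).mp ((germ_mem_primeIdeal_iff hV ⟨y, hWV hy⟩ c).mp hcy))) b'
  have hzero : G.presheaf.map (homOfLE hWV).op t - X.presheaf.map (homOfLE hWV).op g • β = 0 := hP W _ fun y hy hyZ => by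
    obtain ⟨c, hc, hcy⟩ := SetLike.not_le_iff_exists.mp fun hle =>
      hyZ (hZ (specializes_of_primeIdeal_le hV (x := ⟨y, hWV hy⟩) (y := ⟨x, hxV⟩) hle) hx)
    have hmem : ∃ c : T, c.1 ∉ (hV.primeIdealOf ⟨y, hWV hy⟩).asIdeal := by
      by_contra hall
      push_neg at hall
      exact hcy ((show Submodule.span _ (T : Set Γ(X, V)) ≤ _ from Submodule.span_le.mpr fun c' hc' => hall ⟨c', hc'⟩) (hT.symm ▸ hc))
    obtain ⟨c, hcy⟩ := hmem
    have hyc : y ∈ Wc c := ⟨hy, (Scheme.mem_basicOpen _ _ _ (hWV hy)).mpr (by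
      rw [map_mul]
      exact ((hDu y hy).1 c).mul ((Scheme.mem_basicOpen _ _ _ (hWV hy)).mp ((germ_mem_primeIdeal_iff hV ⟨y, hWV hy⟩ c.1).mp hcy)))⟩
    have h2 := congrArg (G.presheaf.germ (iSup Wc) y (Opens.mem_iSup.mpr ⟨c, hyc⟩)) hβ
    rw [TopCat.Presheaf.germ_res_apply] at h2
    have h3 := congrArg (G.presheaf.germ (Wc c) y hyc) (hb' c)
    erw [TopCat.Presheaf.germ_res_apply] at h3
    rw [map_sub, germ_smul, TopCat.Presheaf.germ_res_apply, TopCat.Presheaf.germ_res_apply, h2, h3, sub_eq_zero]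
    apply (hbu c y hyc).smul_left_cancel.mp
    rw [smul_comm _ _ (G.presheaf.germ (Wc c) y hyc (b c)), hb, ← germ_smul, ← germ_smul, mul_smul, hs]
  have h4 := congrArg (G.presheaf.germ W x hxW) hzero
  rw [map_sub, germ_smul, TopCat.Presheaf.germ_res_apply, TopCat.Presheaf.germ_res_apply, map_zero, sub_eq_zero,
    ← ht, ← hgu'] at h4
  have hc₀u := (Scheme.mem_basicOpen _ _ _ hxV).mp hc₀
  refine ⟨hc₀u.unit⁻¹.val • X.presheaf.germ V x hxV u.1 • G.presheaf.germ W x hxW β, ?_⟩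
  apply hc₀u.smul_left_cancel.mp
  rw [h4]
  simp only [smul_smul]
  congr 1
  linear_combination (-(a * X.presheaf.germ V x hxV u.1)) * hc₀u.mul_val_inv

theorem rhoStalk_bijective_iff (F : X.Modules) (x : X) :
    Function.Bijective (ZClos.rhoStalk Z F x) ↔ Function.Bijective (RefHull.stalkMapₗ (ZClos.rhoApp Z F) x) :=
  Iff.rfl

/-- Bijectivity on stalks generizes. -/
theorem stalk_bijective_of_specializes {F G : X.Modules} [F.IsQuasicoherent] [G.IsQuasicoherent]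
    (φ : F ⟶ G) {x y : X} (hyx : y ⤳ x) (h : Function.Bijective (RefHull.stalkMapₗ φ x)) :
    Function.Bijective (RefHull.stalkMapₗ φ y) := by
  obtain ⟨_, ⟨V, hV, rfl⟩, hxV, -⟩ :=
    X.isBasis_affineOpens.exists_subset_of_mem_open (Set.mem_univ x) isOpen_univ
  have hyV : y ∈ V := hyx.mem_open V.isOpen hxV
  refine ⟨(injective_iff_map_eq_zero _).mpr fun m hm => ?_, fun m => ?_⟩
  · obtain ⟨c, s, hc, hs⟩ := exists_smul_eq_germ F hV y hyV m
    have h0 : G.presheaf.germ V y hyV (φ.app V s) = 0 := by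
      rw [← RefHull.stalkMapₗ_germ, ← hs, map_smul, hm, smul_zero]
    obtain ⟨d, hd, hd0⟩ := exists_smul_eq_zero_of_germ G hV y hyV _ h0
    have hds : F.presheaf.germ V x hxV (d • s) = 0 := by
      apply h.1
      rw [germ_app, hd0, map_zero, map_zero]
    have h1 := germ_eq_zero_of_specializes F _ hyx hxV hyV hds
    rw [germ_smul, ← hs] at h1
    exact ((Scheme.mem_basicOpen _ _ _ hyV).mp hc).smul_eq_zero.mp
      (((Scheme.mem_basicOpen _ _ _ hyV).mp hd).smul_eq_zero.mp h1)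
  · obtain ⟨c, t, hc, ht⟩ := exists_smul_eq_germ G hV y hyV m
    obtain ⟨v, hv⟩ := h.2 (G.presheaf.germ V x hxV t)
    obtain ⟨e, s, he, hs⟩ := exists_smul_eq_germ F hV x hxV v
    have h0 : G.presheaf.germ V x hxV (e • t - φ.app V s) = 0 := by
      rw [map_sub, germ_smul, ← hv, ← map_smul, hs, RefHull.stalkMapₗ_germ, sub_self]
    have h1 := germ_eq_zero_of_specializes G _ hyx hxV hyV h0
    rw [map_sub, germ_smul, ← ht, ← RefHull.stalkMapₗ_germ, sub_eq_zero] at h1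
    have hu := ((Scheme.mem_basicOpen _ _ _ hyV).mp (hyx.mem_open (X.basicOpen e).isOpen he)).mul
      ((Scheme.mem_basicOpen _ _ _ hyV).mp hc)
    refine ⟨hu.unit⁻¹.val • F.presheaf.germ V y hyV s, ?_⟩
    rw [map_smul, ← h1, smul_smul, smul_smul, mul_assoc, IsUnit.val_inv_mul, one_smul]

/-- Z-closed at a point iff depth at least two at its generizations in `Z`. -/
theorem bijective_iff_depth [IsLocallyNoetherian X] (hZ : StableUnderSpecialization Z) (F : X.Modules)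
    (hF : Coh.IsCoh F) (x : X) :
    Function.Bijective (ZClos.rhoStalk Z F x) ↔
      ∀ x' : X, x' ⤳ x → x' ∈ Z → (2 : ℕ∞) ≤ LocCoh.depth (X.presheaf.stalk x') (F.presheaf.stalk x') := by
  have := hF.1
  have := hF.2
  have hH : Coh.IsQCoh ((ZClos.H0 Z).obj F) := isQuasicoherent_H0 hZ F
  constructor
  · intro h x' hx' hx'Z
    have hb := stalk_bijective_of_specializes (ZClos.rhoApp Z F) hx' h
    let e := LinearEquiv.ofBijective _ hb
    have := Module.Finite.equiv e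
    show (2 : ℕ∞) ≤ LocCoh.idealDepth _ _
    rw [IdealDepth.congr _ e]
    exact two_le_depth hZ _ (pure_H0 hZ F) (ext_H0 hZ F) hx'Z
  · revert x
    intro x
    refine generization_induction (P := fun z => (∀ x' : X, x' ⤳ z → x' ∈ Z →
      (2 : ℕ∞) ≤ LocCoh.depth (X.presheaf.stalk x') (F.presheaf.stalk x')) →
        Function.Bijective (ZClos.rhoStalk Z F z)) (fun z ih hz => ?_) x
    by_cases hzZ : z ∈ Z
    · refine stalk_bijective_of_depth (ZClos.rhoApp Z F) z (hz z specializes_rfl hzZ) (fun hass => ?_)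
        fun y hy hne => ih y hy hne fun x' hx' => hz x' (hx'.trans hy)
      exact not_isWeakAssPoint_of_pure hZ _ (pure_H0 hZ F) hzZ ((isAssPoint_iff_isWeakAssPoint _ z).mp hass)
    · exact rhoStalk_bijective_of_notMem F hzZ

theorem isOpen_setOf_stalk_bijective [IsLocallyNoetherian X] {F G : X.Modules} (φ : F ⟶ G)
    (hF : Coh.IsCoh F) (hG : Coh.IsCoh G) :
    IsOpen {x : X | Function.Bijective (RefHull.stalkMapₗ φ x)} := by
  classical
  have := hF.1
  have := hF.2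
  have := hG.1
  have := hG.2
  rw [isOpen_iff_forall_mem_open]
  intro x hx
  obtain ⟨_, ⟨V, hV, rfl⟩, hxV, -⟩ :=
    X.isBasis_affineOpens.exists_subset_of_mem_open (Set.mem_univ x) isOpen_univ
  have : IsNoetherianRing Γ(X, V) := IsLocallyNoetherian.component_noetherian ⟨V, hV⟩
  have := finite_sections hV F
  have := finite_sections hV G
  let L : Γ(F, V) →ₗ[Γ(X, V)] Γ(G, V) :=
    { toFun := φ.app V, map_add' := map_add _, map_smul' := fun r a => φ.app_smul r a }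
  obtain ⟨K, hK⟩ := IsNoetherian.noetherian (LinearMap.ker L)
  obtain ⟨T, hT⟩ := (inferInstance : Module.Finite Γ(X, V) Γ(G, V)).1
  have hker : ∀ k : K, ∃ d : Γ(X, V), x ∈ X.basicOpen d ∧ d • k.1 = 0 := fun k => by
    refine exists_smul_eq_zero_of_germ F hV x hxV _ (hx.1 ?_)
    rw [RefHull.stalkMapₗ_germ, map_zero]
    have hk : k.1 ∈ LinearMap.ker L := hK ▸ Submodule.subset_span k.2
    have hk0 : L k.1 = 0 := LinearMap.mem_ker.mp hk
    exact (congrArg _ hk0).trans (map_zero _)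
  have hcoker : ∀ t : T, ∃ (d : Γ(X, V)) (s : Γ(F, V)), x ∈ X.basicOpen d ∧ d • t.1 = φ.app V s := fun t => by
    obtain ⟨v, hv⟩ := hx.2 (G.presheaf.germ V x hxV t.1)
    obtain ⟨e, s, he, hs⟩ := exists_smul_eq_germ F hV x hxV v
    have h0 : G.presheaf.germ V x hxV (e • t.1 - φ.app V s) = 0 := by
      rw [map_sub, germ_smul, ← hv, ← map_smul, hs, RefHull.stalkMapₗ_germ, sub_self]
    obtain ⟨d, hd, hd0⟩ := exists_smul_eq_zero_of_germ G hV x hxV _ h0
    rw [smul_sub, sub_eq_zero, smul_smul] at hd0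
    exact ⟨d * e, d • s, by rw [Scheme.basicOpen_mul]; exact ⟨hd, he⟩, hd0.trans (φ.app_smul d s).symm⟩
  choose dk hdk hdk0 using hker
  choose dt st hdt hdt0 using hcoker
  refine ⟨X.basicOpen ((∏ k, dk k) * ∏ t, dt t), fun y hy => ?_, (X.basicOpen _).isOpen, ?_⟩
  swap
  · show x ∈ X.basicOpen _
    rw [Scheme.mem_basicOpen _ _ _ hxV, map_mul, map_prod, map_prod, IsUnit.mul_iff, IsUnit.prod_univ_iff,
      IsUnit.prod_univ_iff]
    exact ⟨fun k => (Scheme.mem_basicOpen _ _ _ hxV).mp (hdk k), fun t => (Scheme.mem_basicOpen _ _ _ hxV).mp (hdt t)⟩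
  have hyV : y ∈ V := X.basicOpen_le _ hy
  have hu := (Scheme.mem_basicOpen _ _ _ hyV).mp hy
  rw [map_mul, map_prod, map_prod, IsUnit.mul_iff, IsUnit.prod_univ_iff, IsUnit.prod_univ_iff] at hu
  refine ⟨(injective_iff_map_eq_zero _).mpr fun m hm => ?_, fun m => ?_⟩
  · obtain ⟨c, s, hc, hs⟩ := exists_smul_eq_germ F hV y hyV m
    have h0 : G.presheaf.germ V y hyV (φ.app V s) = 0 := by
      rw [← RefHull.stalkMapₗ_germ, ← hs, map_smul, hm, smul_zero]
    obtain ⟨d, hd, hd0⟩ := exists_smul_eq_zero_of_germ G hV y hyV _ h0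
    have hmem : d • s ∈ Submodule.span Γ(X, V) (K : Set Γ(F, V)) := by
      rw [hK]; exact (φ.app_smul d s).trans hd0
    have h1 : F.presheaf.germ V y hyV (d • s) = 0 := by
      clear hd0
      revert hmem
      generalize d • s = w
      intro hmem
      induction hmem using Submodule.span_induction with
      | mem k hk =>
        apply (hu.1 ⟨k, hk⟩).smul_eq_zero.mp
        rw [← germ_smul, hdk0 ⟨k, hk⟩, map_zero]
      | zero => rw [map_zero]
      | add a b _ _ ha hb => rw [map_add, ha, hb, add_zero]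
      | smul r a _ ha => rw [germ_smul, ha, smul_zero]
    rw [germ_smul, ← hs] at h1
    exact ((Scheme.mem_basicOpen _ _ _ hyV).mp hc).smul_eq_zero.mp
      (((Scheme.mem_basicOpen _ _ _ hyV).mp hd).smul_eq_zero.mp h1)
  · obtain ⟨c, t, hc, ht⟩ := exists_smul_eq_germ G hV y hyV m
    have hmem : t ∈ Submodule.span Γ(X, V) (T : Set Γ(G, V)) := hT ▸ Submodule.mem_top
    have h1 : G.presheaf.germ V y hyV t ∈ LinearMap.range (RefHull.stalkMapₗ φ y) := by
      clear ht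
      induction hmem using Submodule.span_induction with
      | mem k hk =>
        refine ⟨(hu.2 ⟨k, hk⟩).unit⁻¹.val • F.presheaf.germ V y hyV (st ⟨k, hk⟩), ?_⟩
        rw [map_smul, RefHull.stalkMapₗ_germ, ← hdt0, germ_smul, smul_smul, IsUnit.val_inv_mul, one_smul]
      | zero => rw [map_zero]; exact Submodule.zero_mem _
      | add a b _ _ ha hb => rw [map_add]; exact Submodule.add_mem _ ha hb
      | smul r a _ ha => rw [germ_smul]; exact Submodule.smul_mem _ _ ha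
    obtain ⟨v, hv⟩ := h1
    refine ⟨((Scheme.mem_basicOpen _ _ _ hyV).mp hc).unit⁻¹.val • v, ?_⟩
    rw [map_smul, hv, ← ht, smul_smul, IsUnit.val_inv_mul, one_smul]

theorem rhoStalk_germ (F : X.Modules) {V : X.Opens} (y : X) (hy : y ∈ V) (b : Γ(F, V)) :
    ZClos.rhoStalk Z F y (F.presheaf.germ V y hy b) =
      ((ZClos.H0 Z).obj F).presheaf.germ V y hy ((ZClos.rhoApp Z F).app V b) :=
  TopCat.Presheaf.stalkFunctor_map_germ_apply V y hy (ZClos.rhoApp Z F).mapPresheaf b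

/-- Where the unit is bijective on stalks, the restriction is Z-closed. -/
theorem isZClosed_restrict_of_bijective [IsLocallyNoetherian X] (hZ : StableUnderSpecialization Z)
    (F : X.Modules) (U : X.Opens) (h : ∀ x ∈ U, Function.Bijective (ZClos.rhoStalk Z F x)) :
    ZClos.IsZClosed (U.ι.base ⁻¹' Z) ((Scheme.Modules.restrictFunctor U.ι).obj F) := by
  classical
  have hle : ∀ W : (U : Scheme.{u}).Opens, U.ι ''ᵁ W ≤ U := fun W y ⟨w, _, hw⟩ => hw ▸ w.2
  have hPure : ∀ (O : X.Opens), O ≤ U → ∀ a : Γ(F, O),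
      (∀ (y : X) (hy : y ∈ O), y ∉ Z → F.presheaf.germ O y hy a = 0) → a = 0 := by
    intro O hO a ha
    refine section_eq_zero F a fun y hy => ?_
    apply (h y (hO hy)).1
    rw [map_zero, rhoStalk_germ]
    have h0 : (ZClos.rhoApp Z F).app O a = 0 := pure_H0 hZ F _ _ fun z hz hzZ => by
      rw [← rhoStalk_germ, ha z hz hzZ, map_zero]
    rw [h0, map_zero]
  have hExt : ∀ (O₁ O₂ : X.Opens) (hO : O₂ ≤ O₁), O₁ ≤ U → (∀ y ∈ O₁, y ∉ Z → y ∈ O₂) → ∀ a : Γ(F, O₂),
      ∃ B : Γ(F, O₁), F.presheaf.map (homOfLE hO).op B = a := by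
    intro O₁ O₂ hO hO₁ hcov a
    obtain ⟨C, hC⟩ := ext_H0 hZ F O₁ O₂ hO hcov ((ZClos.rhoApp Z F).app O₂ a)
    have hloc : ∀ y : ↥O₁, ∃ (P : X.Opens) (hP : P ≤ O₁) (_ : y.1 ∈ P) (b : Γ(F, P)),
        (ZClos.rhoApp Z F).app P b = ((ZClos.H0 Z).obj F).presheaf.map (homOfLE hP).op C := by
      rintro ⟨y, hy⟩
      obtain ⟨v, hv⟩ := (h y (hO₁ hy)).2 (((ZClos.H0 Z).obj F).presheaf.germ _ y hy C)
      obtain ⟨O, hyO, b, rfl⟩ := F.presheaf.exists_germ_eq (x := y) v
      rw [rhoStalk_germ] at hv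
      obtain ⟨O', hyO', i, j, hO'⟩ := TopCat.Presheaf.germ_eq _ y hyO hy _ _ hv
      refine ⟨O', leOfHom j, hyO', F.presheaf.map i.op b, ?_⟩
      exact (ConcreteCategory.congr_hom ((ZClos.rhoApp Z F).mapPresheaf.naturality i.op) b).trans hO'
    choose P hP hyP b hb using hloc
    have hbg : ∀ (p : ↥O₁) (z : X) (hz : z ∈ P p),
        ZClos.rhoStalk Z F z (F.presheaf.germ (P p) z hz (b p)) =
          ((ZClos.H0 Z).obj F).presheaf.germ _ z (hP p hz) C := fun p z hz => by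
      rw [rhoStalk_germ, hb, TopCat.Presheaf.germ_res_apply]
    obtain ⟨B, hB, -⟩ := TopCat.Sheaf.existsUnique_gluing' ⟨F.presheaf, F.isSheaf⟩ P O₁
      (fun p => homOfLE (hP p)) (fun y hy => Opens.mem_iSup.mpr ⟨⟨y, hy⟩, hyP _⟩) b (fun p q => by
        refine TopCat.Presheaf.section_ext ⟨F.presheaf, F.isSheaf⟩ _ _ _ fun z hz => ?_
        erw [TopCat.Presheaf.germ_res_apply, TopCat.Presheaf.germ_res_apply]
        exact (h z (hO₁ (hP p hz.1))).1 ((hbg p z hz.1).trans (hbg q z hz.2).symm))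
    refine ⟨B, TopCat.Presheaf.section_ext ⟨F.presheaf, F.isSheaf⟩ _ _ _ fun z hz => ?_⟩
    show F.presheaf.germ O₂ z hz (F.presheaf.map (homOfLE hO).op B) = F.presheaf.germ O₂ z hz a
    apply (h z (hO₁ (hO hz))).1
    have h1 := congrArg (F.presheaf.germ _ z (hyP ⟨z, hO hz⟩)) (hB ⟨z, hO hz⟩)
    erw [TopCat.Presheaf.germ_res_apply] at h1
    rw [TopCat.Presheaf.germ_res_apply, h1, hbg]
    have h2 := congrArg (((ZClos.H0 Z).obj F).presheaf.germ _ z hz) hC
    rw [TopCat.Presheaf.germ_res_apply] at h2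
    rw [rhoStalk_germ]
    exact h2
  refine (isZClosed_iff_ext (stableUnderSpecialization_preimage hZ U) _).mpr ⟨fun W a ha => ?_,
    fun W W' hWW hW a => ?_⟩
  · refine hPure (U.ι ''ᵁ W) (hle W) a fun z hz hzZ => ?_
    obtain ⟨w, hw, rfl⟩ := hz
    exact (germ_restrict_eq_zero_iff F U W w hw a ⟨w, hw, rfl⟩).mp (ha w hw hzZ)
  · refine hExt (U.ι ''ᵁ W) (U.ι ''ᵁ W') (U.ι.image_mono hWW) (hle W) (fun y hy hyZ => ?_) a
    obtain ⟨w, hw, rfl⟩ := hy
    exact ⟨w, hW w hw hyZ, rfl⟩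

/-- Conversely, on an open where the restriction is Z-closed the unit is bijective on stalks. -/
theorem bijective_of_isZClosed_restrict [IsLocallyNoetherian X] (hZ : StableUnderSpecialization Z)
    (F : X.Modules) (V : X.Opens)
    (h : ZClos.IsZClosed (V.ι.base ⁻¹' Z) ((Scheme.Modules.restrictFunctor V.ι).obj F)) (x : X) (hx : x ∈ V) :
    Function.Bijective (ZClos.rhoStalk Z F x) := by
  obtain ⟨hP, hE⟩ := (isZClosed_iff_ext (stableUnderSpecialization_preimage hZ V) _).mp h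
  have hPure : ∀ (W : X.Opens) (a : Γ(F, W)), W ≤ V →
      (∀ (y : X) (hy : y ∈ W), y ∉ Z → F.presheaf.germ W y hy a = 0) → a = 0 := by
    intro W a hWV ha
    have h0 := hP (V.ι ⁻¹ᵁ W) (F.presheaf.map (homOfLE (V.ι.image_preimage_le W)).op a) fun w hw hwZ => by
      refine (germ_restrict_eq_zero_iff F V _ w hw _ ⟨w, hw, rfl⟩).mpr ?_
      exact (F.presheaf.germ_res_apply _ _ _ a).trans (ha _ hw hwZ)
    refine section_eq_zero F a fun y hy => ?_
    have hy' : y ∈ V.ι ''ᵁ V.ι ⁻¹ᵁ W := by rw [ZClos.ι_image_preimage]; exact ⟨hWV hy, hy⟩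
    rw [← F.presheaf.germ_res_apply (homOfLE (V.ι.image_preimage_le W)) y hy' a]
    exact (congrArg (F.presheaf.germ _ y hy') h0).trans (map_zero _)
  refine ⟨(injective_iff_map_eq_zero _).mpr fun m hm => ?_, fun m => ?_⟩
  · obtain ⟨W₀, hxW₀, a₀, rfl⟩ := F.presheaf.exists_germ_eq (x := x) m
    rw [← F.presheaf.germ_res_apply (homOfLE (inf_le_left : W₀ ⊓ V ≤ W₀)) x ⟨hxW₀, hx⟩ a₀] at hm ⊢
    generalize hgen : F.presheaf.map (homOfLE (inf_le_left : W₀ ⊓ V ≤ W₀)).op a₀ = a at hm ⊢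
    erw [rhoStalk_germ] at hm
    rw [rho_app_eq F ⊥] at hm
    obtain ⟨T', W, hxW, hW, -, hvan⟩ := exists_of_germ_eq_zero F ⊥ _ x _ _ hm
    have h0 : F.presheaf.map (homOfLE hW).op a = 0 := hPure W _ (hW.trans inf_le_right) fun y hy hyZ => by
      have hyb : y ∈ (⊥ : ZClos.Cl Z).U.ι ''ᵁ (⊥ : ZClos.Cl Z).U.ι ⁻¹ᵁ (W₀ ⊓ V) := by
        rw [ZClos.ι_image_preimage]; exact ⟨fun hb => hyZ ((⊥ : ZClos.Cl Z).2 hb), hW hy⟩
      have h1 := hvan y (fun hb => hyZ (T'.2 hb)) hy hyb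
      rw [TopCat.Presheaf.germ_res_apply] at h1 ⊢
      exact h1
    rw [← F.presheaf.germ_res_apply (homOfLE hW) x hxW a, h0, map_zero]
  · obtain ⟨T, W₀, hxW₀, a₀, rfl⟩ := exists_rep F x m
    rw [← TopCat.Presheaf.germ_res_apply _ (homOfLE (inf_le_left : W₀ ⊓ V ≤ W₀)) x ⟨hxW₀, hx⟩, gT_map]
    generalize F.presheaf.map (homOfLE _).op a₀ = a
    let W := W₀ ⊓ V
    have hWV : W ≤ V := inf_le_right
    have hxW : x ∈ W := ⟨hxW₀, hx⟩
    have himg : ∀ O : X.Opens, O ≤ V → O ≤ V.ι ''ᵁ V.ι ⁻¹ᵁ O := fun O hO => by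
      rw [ZClos.ι_image_preimage]; exact le_inf hO le_rfl
    obtain ⟨β, hβ⟩ := hE (V.ι ⁻¹ᵁ W) (V.ι ⁻¹ᵁ (T.U.ι ''ᵁ T.U.ι ⁻¹ᵁ W))
      (Scheme.Hom.preimage_mono V.ι (T.U.ι.image_preimage_le W))
      (fun w hw hwZ => by
        show V.ι w ∈ T.U.ι ''ᵁ T.U.ι ⁻¹ᵁ W
        rw [ZClos.ι_image_preimage]; exact ⟨fun ht => hwZ (T.2 ht), hw⟩)
      (F.presheaf.map (homOfLE (V.ι.image_preimage_le _)).op a)
    refine ⟨F.presheaf.germ W x hxW (F.presheaf.map (homOfLE (himg W hWV)).op β), ?_⟩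
    rw [rhoStalk_germ]
    show ((ZClos.H0 Z).obj F).presheaf.germ W x hxW _ = ((ZClos.H0 Z).obj F).presheaf.germ W x hxW (gT Z F T W a)
    refine congrArg _ (sub_eq_zero.mp (pure_H0 hZ F W _ fun y hy hyZ => ?_))
    have hy' : y ∈ T.U.ι ''ᵁ T.U.ι ⁻¹ᵁ W := by
      rw [ZClos.ι_image_preimage]; exact ⟨fun ht => hyZ (T.2 ht), hy⟩
    rw [map_sub, ← rhoStalk_germ, germ_gT_of_mem F T W a y hy (fun ht => hyZ (T.2 ht)) hy']
    erw [TopCat.Presheaf.germ_res_apply]
    rw [sub_eq_zero]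
    exact congrArg _ (germ_eq_of_res_eq F (V.ι.image_mono (Scheme.Hom.preimage_mono V.ι (T.U.ι.image_preimage_le W)))
      (V.ι.image_preimage_le _) hβ y (himg _ ((T.U.ι.image_preimage_le W).trans hWV) hy'))

end Groth.Agent.ZClosure
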