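import Groth.Agent.ZClosure.Formal
import Groth.Agent.ModStalk.Colimit
import Groth.Agent.ModStalk.Localization
import Mathlib.Topology.Sheaves.SheafCondition.UniqueGluing

/-! Sections and stalks of the Z-closure; extension criteria. -/

set_option autoImplicit false
universe u

open CategoryTheory CategoryTheory.Limits AlgebraicGeometry TopologicalSpace Opposite

namespace Groth.Agent.ZClosure

open Groth.Agent.ModStalk

variable {X : Scheme.{u}} {Z : Set X}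

/-- The closure of a relatively closed subset of `Z` stays in `Z`. -/
theorem closure_subset [IsLocallyNoetherian X] (hZ : StableUnderSpecialization Z) (V : X.Opens)
    (S : Set X) (hS : ∃ C : Set X, IsClosed C ∧ S = C ∩ V) (hSZ : S ⊆ Z) : closure S ⊆ Z := by
  obtain ⟨C, hC, rfl⟩ := hS
  intro y hy
  obtain ⟨_, ⟨W, hW, rfl⟩, hyW, -⟩ :=
    X.isBasis_affineOpens.exists_subset_of_mem_open (Set.mem_univ y) isOpen_univ
  have : IsNoetherianRing Γ(X, W) := IsLocallyNoetherian.component_noetherian ⟨W, hW⟩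
  have hNW : NoetherianSpace W :=
    have hn : NoetherianSpace (Spec Γ(X, W)) := inferInstance
    (hW.isoSpec.hom.isOpenEmbedding.isInducing.noetherianSpace :)
  let A : Set X := (C ∩ V) ∩ W
  have hyA : y ∈ closure A := by
    refine closure_mono (s := (C ∩ V) ∩ W) (fun _ h => h) ?_
    rw [mem_closure_iff] at hy ⊢
    intro O hO hyO
    obtain ⟨z, hz, hz'⟩ := hy (O ∩ W) (hO.inter W.isOpen) ⟨hyO, hyW⟩
    exact ⟨z, hz.1, hz', hz.2⟩
  have : NoetherianSpace A := by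
    let i : A → W := fun a => ⟨a.1, a.2.2⟩
    have hi : Topology.IsInducing i :=
      Topology.IsInducing.of_comp (by fun_prop) continuous_subtype_val Topology.IsInducing.subtypeVal
    exact @Topology.IsInducing.noetherianSpace _ _ _ _ hNW i hi
  have hfin := NoetherianSpace.finite_irreducibleComponents (α := A)
  have hA : A = ⋃ K ∈ irreducibleComponents A, Subtype.val '' K := by
    ext a
    refine ⟨fun ha => ?_, fun ha => ?_⟩
    · exact Set.mem_biUnion (irreducibleComponent_mem_irreducibleComponents ⟨a, ha⟩)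
        ⟨⟨a, ha⟩, mem_irreducibleComponent, rfl⟩
    · obtain ⟨K, -, b, -, rfl⟩ := Set.mem_iUnion₂.mp ha
      exact b.2
  rw [hA, hfin.closure_biUnion] at hyA
  obtain ⟨K, hK, hyK⟩ := Set.mem_iUnion₂.mp hyA
  have hirr : IsIrreducible (Subtype.val '' K) := hK.1.image _ continuous_subtype_val.continuousOn
  let g := hirr.genericPoint
  have hg : closure ({g} : Set X) = closure (Subtype.val '' K) := hirr.isGenericPoint_genericPoint_closure.def
  obtain ⟨a, ha⟩ := hK.1.nonempty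
  have hga : g ⤳ a.1 := specializes_iff_mem_closure.mpr (hg ▸ subset_closure ⟨a, ha, rfl⟩)
  have hgy : g ⤳ y := specializes_iff_mem_closure.mpr (hg ▸ hyK)
  refine hZ hgy (hSZ ⟨?_, hga.mem_open V.isOpen a.2.1.2⟩)
  have h1 : closure (Subtype.val '' K) ⊆ C :=
    closure_minimal (Set.image_subset_iff.mpr fun b _ => b.2.1.1) hC
  exact h1 (hg ▸ subset_closure rfl)

/-- A closed set inside `Z` containing a given relatively closed one. -/
noncomputable def clOf [IsLocallyNoetherian X] (hZ : StableUnderSpecialization Z) (V : X.Opens)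
    (S : Set X) (hS : ∃ C : Set X, IsClosed C ∧ S = C ∩ V) (hSZ : S ⊆ Z) : ZClos.Cl Z :=
  ⟨⟨closure S, isClosed_closure⟩, closure_subset hZ V S hS hSZ⟩

theorem exists_cl_support [IsLocallyNoetherian X] (hZ : StableUnderSpecialization Z) (F : X.Modules)
    {V : X.Opens} (a : Γ(F, V)) (h : ∀ (y : X) (hy : y ∈ V), y ∉ Z → F.presheaf.germ V y hy a = 0) :
    ∃ T : ZClos.Cl Z, ∀ (y : X) (hy : y ∈ V), y ∈ T.U → F.presheaf.germ V y hy a = 0 := by
  let S : Set X := {y | ∃ hy : y ∈ V, F.presheaf.germ V y hy a ≠ 0}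
  have hopen : IsOpen {y : X | ∃ hy : y ∈ V, F.presheaf.germ V y hy a = 0} := by
    rw [isOpen_iff_forall_mem_open]
    rintro y ⟨hy, h0⟩
    obtain ⟨W, hyW, i, j, hW⟩ := F.presheaf.germ_eq y hy hy a 0 (h0.trans (map_zero _).symm)
    refine ⟨W, fun z hz => ⟨leOfHom i hz, ?_⟩, W.isOpen, hyW⟩
    rw [← F.presheaf.germ_res_apply i z hz a, hW, map_zero, map_zero]
  refine ⟨clOf hZ V S ⟨_, hopen.isClosed_compl, ?_⟩ (fun y ⟨hy, hne⟩ => ?_), fun y hy hyT => ?_⟩
  · ext y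
    constructor
    · rintro ⟨hy, hne⟩
      exact ⟨fun ⟨_, h0⟩ => hne h0, hy⟩
    · rintro ⟨hn, hy⟩
      exact ⟨hy, fun h0 => hn ⟨hy, h0⟩⟩
  · by_contra hyZ
    exact hne (h y hy hyZ)
  · by_contra hne
    exact hyT (subset_closure ⟨hy, hne⟩)

variable (Z) in
/-- A section over `V ∖ T` as a section of the Z-closure over `V`. -/
noncomputable def gT (F : X.Modules) (T : ZClos.Cl Z) (V : X.Opens)
    (a : Γ(F, T.U.ι ''ᵁ T.U.ι ⁻¹ᵁ V)) : Γ((ZClos.H0 Z).obj F, V) :=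
  (colimit.ι ((ZClos.diagram Z).obj F) T).app V a

theorem app_comp_apply {A B C : X.Modules} (f : A ⟶ B) (g : B ⟶ C) (V : X.Opens) (a : Γ(A, V)) :
    (f ≫ g).app V a = g.app V (f.app V a) := rfl

theorem gT_res (F : X.Modules) {T T' : ZClos.Cl Z} (h : T ≤ T') (V : X.Opens)
    (a : Γ(F, T.U.ι ''ᵁ T.U.ι ⁻¹ᵁ V)) :
    gT Z F T' V (F.presheaf.map (ZClos.trIncl (ZClos.Cl.U_anti h) V).op a) = gT Z F T V a := by
  have hw := colimit.w ((ZClos.diagram Z).obj F) (homOfLE h)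
  have h1 := app_comp_apply (((ZClos.diagram Z).obj F).map (homOfLE h))
    (colimit.ι ((ZClos.diagram Z).obj F) T') V a
  have h2 : (((ZClos.diagram Z).obj F).map (homOfLE h)).app V =
      F.presheaf.map (ZClos.trIncl (ZClos.Cl.U_anti h) V).op :=
    ZClos.resPushMapApp_app (ZClos.Cl.U_anti h) F V
  rw [hw, h2] at h1
  exact h1.symm

theorem gT_map (F : X.Modules) (T : ZClos.Cl Z) {V W : X.Opens} (h : W ≤ V)
    (a : Γ(F, T.U.ι ''ᵁ T.U.ι ⁻¹ᵁ V)) :
    ((ZClos.H0 Z).obj F).presheaf.map (homOfLE h).op (gT Z F T V a) =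
      gT Z F T W (F.presheaf.map (homOfLE (T.U.ι.image_mono (Scheme.Hom.preimage_mono T.U.ι h))).op a) :=
  (ConcreteCategory.congr_hom ((colimit.ι ((ZClos.diagram Z).obj F) T).mapPresheaf.naturality (homOfLE h).op) a).symm

theorem rho_app_eq (F : X.Modules) (T : ZClos.Cl Z) (V : X.Opens) (b : Γ(F, V)) :
    (ZClos.rhoApp Z F).app V b = gT Z F T V (F.presheaf.map (homOfLE (T.U.ι.image_preimage_le V)).op b) :=
  congrArg (fun f => Scheme.Modules.Hom.app f V b) (ZClos.rhoApp_eq Z F T)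

/-- Every stalk element of the Z-closure comes from a section off a closed subset of `Z`. -/
theorem exists_rep (F : X.Modules) (x : X) (m : ((ZClos.H0 Z).obj F).presheaf.stalk x) :
    ∃ (T : ZClos.Cl Z) (V : X.Opens) (hx : x ∈ V) (a : Γ(F, T.U.ι ''ᵁ T.U.ι ⁻¹ᵁ V)),
      ((ZClos.H0 Z).obj F).presheaf.germ V x hx (gT Z F T V a) = m := by
  have := preservesColimitsOfShape_stalkAb x (ZClos.Cl Z)
  obtain ⟨T, n, hn⟩ := Concrete.isColimit_exists_rep _
    (isColimitOfPreserves (stalkAb x) (colimit.isColimit ((ZClos.diagram Z).obj F))) m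
  obtain ⟨V, hx, a, rfl⟩ := TopCat.Presheaf.exists_germ_eq _ (x := x) n
  exact ⟨T, V, hx, a, (TopCat.Presheaf.stalkFunctor_map_germ_apply V x hx
    (colimit.ι ((ZClos.diagram Z).obj F) T).mapPresheaf a).symm.trans hn⟩

/-- A representative with vanishing germ vanishes on a smaller open off a larger closed subset. -/
theorem exists_of_germ_eq_zero (F : X.Modules) (T : ZClos.Cl Z) (V : X.Opens) (x : X) (hx : x ∈ V)
    (a : Γ(F, T.U.ι ''ᵁ T.U.ι ⁻¹ᵁ V))
    (h : ((ZClos.H0 Z).obj F).presheaf.germ V x hx (gT Z F T V a) = 0) :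
    ∃ (T' : ZClos.Cl Z) (W : X.Opens), x ∈ W ∧ W ≤ V ∧ T ≤ T' ∧
      ∀ (y : X) (_ : y ∈ T'.U) (_ : y ∈ W) (hy'' : y ∈ T.U.ι ''ᵁ T.U.ι ⁻¹ᵁ V),
        F.presheaf.germ _ y hy'' a = 0 := by
  have := preservesColimitsOfShape_stalkAb x (ZClos.Cl Z)
  let n := (((ZClos.diagram Z).obj F).obj T).presheaf.germ V x hx a
  have h' : (stalkAb x).map (colimit.ι ((ZClos.diagram Z).obj F) T) n =
      (stalkAb x).map (colimit.ι ((ZClos.diagram Z).obj F) T) 0 := by
    rw [map_zero]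
    exact (TopCat.Presheaf.stalkFunctor_map_germ_apply V x hx
      (colimit.ι ((ZClos.diagram Z).obj F) T).mapPresheaf a).trans h
  obtain ⟨T', f, g, hfg⟩ := Concrete.isColimit_exists_of_rep_eq _
    (isColimitOfPreserves (stalkAb x) (colimit.isColimit ((ZClos.diagram Z).obj F))) n 0 h'
  rw [map_zero] at hfg
  have hfg' : (((ZClos.diagram Z).obj F).obj T').presheaf.germ V x hx
      ((((ZClos.diagram Z).obj F).map f).app V a) = 0 :=
    (TopCat.Presheaf.stalkFunctor_map_germ_apply V x hx (((ZClos.diagram Z).obj F).map f).mapPresheaf a).symm.trans hfg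
  obtain ⟨W, hxW, i, j, hW⟩ := TopCat.Presheaf.germ_eq _ x hx hx _ 0 (hfg'.trans (map_zero _).symm)
  rw [map_zero] at hW
  refine ⟨T', W, hxW, leOfHom i, f.le, fun y hyT hyW hy'' => ?_⟩
  have hy1 : y ∈ T'.U.ι ''ᵁ T'.U.ι ⁻¹ᵁ V := by rw [ZClos.ι_image_preimage]; exact ⟨hyT, leOfHom i hyW⟩
  have hy2 : y ∈ T'.U.ι ''ᵁ T'.U.ι ⁻¹ᵁ W := by rw [ZClos.ι_image_preimage]; exact ⟨hyT, hyW⟩
  have e : F.presheaf.map (T'.U.ι.opensFunctor.map ((Opens.map T'.U.ι.base).map i)).op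
      (F.presheaf.map (ZClos.trIncl (ZClos.Cl.U_anti f.le) V).op a) = 0 := by
    rw [← ZClos.resPushMapApp_app]
    exact hW
  have := congrArg (F.presheaf.germ _ y hy2) e
  rw [TopCat.Presheaf.germ_res_apply, TopCat.Presheaf.germ_res_apply, map_zero] at this
  exact this

/-- A representative vanishing off `Z` gives the zero section. -/
theorem gT_eq_zero [IsLocallyNoetherian X] (hZ : StableUnderSpecialization Z) (F : X.Modules)
    (T : ZClos.Cl Z) (V : X.Opens) (a : Γ(F, T.U.ι ''ᵁ T.U.ι ⁻¹ᵁ V))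
    (h : ∀ (y : X) (hy : y ∈ T.U.ι ''ᵁ T.U.ι ⁻¹ᵁ V), y ∉ Z → F.presheaf.germ _ y hy a = 0) :
    gT Z F T V a = 0 := by
  obtain ⟨T', hT'⟩ := exists_cl_support hZ F a h
  rw [← gT_res F (le_sup_left : T ≤ T ⊔ T') V a]
  have h0 : F.presheaf.map (ZClos.trIncl (ZClos.Cl.U_anti (le_sup_left : T ≤ T ⊔ T')) V).op a = 0 := by
    refine section_eq_zero F _ fun y hy => ?_
    rw [TopCat.Presheaf.germ_res_apply]
    have hy' := hy
    rw [ZClos.ι_image_preimage] at hy'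
    exact hT' y _ (ZClos.Cl.U_anti (le_sup_right : T' ≤ T ⊔ T') hy'.1)
  rw [h0]
  exact map_zero _

theorem germ_gT_of_mem (F : X.Modules) (T : ZClos.Cl Z) (V : X.Opens) (a : Γ(F, T.U.ι ''ᵁ T.U.ι ⁻¹ᵁ V))
    (y : X) (hyV : y ∈ V) (hyT : y ∈ T.U) (hy : y ∈ T.U.ι ''ᵁ T.U.ι ⁻¹ᵁ V) :
    ((ZClos.H0 Z).obj F).presheaf.germ V y hyV (gT Z F T V a) =
      ZClos.rhoStalk Z F y (F.presheaf.germ _ y hy a) := by
  let W := T.U ⊓ V
  have hyW : y ∈ W := ⟨hyT, hyV⟩
  have hle : W ≤ T.U.ι ''ᵁ T.U.ι ⁻¹ᵁ V := (ZClos.ι_image_preimage T.U V).ge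
  rw [← F.presheaf.germ_res_apply (homOfLE hle) y hyW a,
    ← ((ZClos.H0 Z).obj F).presheaf.germ_res_apply (homOfLE (inf_le_right : W ≤ V)) y hyW,
    gT_map F T (inf_le_right : W ≤ V)]
  refine Eq.trans ?_ (TopCat.Presheaf.stalkFunctor_map_germ_apply W y hyW
    (ZClos.rhoApp Z F).mapPresheaf _).symm
  congr 1
  show _ = (ZClos.rhoApp Z F).app W _
  rw [rho_app_eq F T W, ← ConcreteCategory.comp_apply, ← Functor.map_comp]
  rfl

theorem rhoStalk_bijective_of_notMem (F : X.Modules) {y : X} (hy : y ∉ Z) :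
    Function.Bijective (ZClos.rhoStalk Z F y) := by
  constructor
  · rw [injective_iff_map_eq_zero]
    intro m hm
    obtain ⟨V, hyV, a, rfl⟩ := F.presheaf.exists_germ_eq (x := y) m
    have hy0 : y ∈ (⊥ : ZClos.Cl Z).U.ι ''ᵁ (⊥ : ZClos.Cl Z).U.ι ⁻¹ᵁ V := by
      rw [ZClos.ι_image_preimage]; exact ⟨fun h => hy ((⊥ : ZClos.Cl Z).2 h), hyV⟩
    have h1 := hm
    rw [← F.presheaf.germ_res_apply (homOfLE ((⊥ : ZClos.Cl Z).U.ι.image_preimage_le V)) y hy0 a] at h1 ⊢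
    rw [← germ_gT_of_mem F ⊥ V _ y hyV (fun h => hy ((⊥ : ZClos.Cl Z).2 h)) hy0] at h1
    obtain ⟨T', W, hyW, -, -, h2⟩ := exists_of_germ_eq_zero F ⊥ V y hyV _ h1
    exact h2 y (fun h => hy (T'.2 h)) hyW hy0
  · intro m
    obtain ⟨T, V, hyV, a, rfl⟩ := exists_rep F y m
    have hyT : y ∈ T.U := fun h => hy (T.2 h)
    have hy0 : y ∈ T.U.ι ''ᵁ T.U.ι ⁻¹ᵁ V := by rw [ZClos.ι_image_preimage]; exact ⟨hyT, hyV⟩
    exact ⟨_, (germ_gT_of_mem F T V a y hyV hyT hy0).symm⟩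

/-- Sections whose germs agree off `Z` glue after removing a closed subset of `Z`. -/
theorem exists_glue [IsLocallyNoetherian X] (hZ : StableUnderSpecialization Z) (F : X.Modules)
    {I : Type u} [Fintype I] (W : I → X.Opens) (a : ∀ i, Γ(F, W i))
    (h : ∀ i j (y : X) (hi : y ∈ W i) (hj : y ∈ W j), y ∉ Z →
      F.presheaf.germ (W i) y hi (a i) = F.presheaf.germ (W j) y hj (a j)) :
    ∃ (T : ZClos.Cl Z) (b : Γ(F, T.U ⊓ iSup W)), ∀ i (y : X) (hi : y ∈ W i) (hT : y ∈ T.U),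
      F.presheaf.germ (T.U ⊓ iSup W) y ⟨hT, Opens.mem_iSup.mpr ⟨i, hi⟩⟩ b =
        F.presheaf.germ (W i) y hi (a i) := by
  classical
  let d : ∀ p : I × I, Γ(F, W p.1 ⊓ W p.2) := fun p =>
    F.presheaf.map (homOfLE inf_le_left).op (a p.1) - F.presheaf.map (homOfLE inf_le_right).op (a p.2)
  have hd : ∀ p, ∃ T : ZClos.Cl Z, ∀ (y : X) (hy : y ∈ W p.1 ⊓ W p.2), y ∈ T.U →
      F.presheaf.germ _ y hy (d p) = 0 := fun p => by
    refine exists_cl_support hZ F (d p) fun y hy hyZ => ?_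
    rw [map_sub, TopCat.Presheaf.germ_res_apply, TopCat.Presheaf.germ_res_apply,
      h p.1 p.2 y hy.1 hy.2 hyZ, sub_self]
  choose T hT using hd
  let T₀ : ZClos.Cl Z := Finset.univ.sup T
  have hagree : ∀ i j (y : X) (hi : y ∈ W i) (hj : y ∈ W j), y ∈ T₀.U →
      F.presheaf.germ (W i) y hi (a i) = F.presheaf.germ (W j) y hj (a j) := by
    intro i j y hi hj hy
    have hij : y ∈ W i ⊓ W j := ⟨hi, hj⟩
    have h0 := hT (i, j) y hij (ZClos.Cl.U_anti (Finset.le_sup (Finset.mem_univ (i, j))) hy)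
    rw [map_sub, sub_eq_zero] at h0
    rw [← F.presheaf.germ_res_apply (homOfLE (inf_le_left : W i ⊓ W j ≤ W i)) y hij (a i), h0,
      TopCat.Presheaf.germ_res_apply]
  obtain ⟨b, hb, -⟩ := TopCat.Sheaf.existsUnique_gluing' ⟨F.presheaf, F.isSheaf⟩
    (fun i => T₀.U ⊓ W i) (T₀.U ⊓ iSup W) (fun i => homOfLE (inf_le_inf_left _ (le_iSup W i)))
    (by rw [inf_iSup_eq]) (fun i => F.presheaf.map (homOfLE (inf_le_right : T₀.U ⊓ W i ≤ W i)).op (a i))
    (fun i j => by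
      refine TopCat.Presheaf.section_ext ⟨F.presheaf, F.isSheaf⟩ _ _ _ fun y hy => ?_
      erw [TopCat.Presheaf.germ_res_apply, TopCat.Presheaf.germ_res_apply, TopCat.Presheaf.germ_res_apply,
        TopCat.Presheaf.germ_res_apply]
      exact hagree i j y hy.1.2 hy.2.2 hy.1.1)
  refine ⟨T₀, b, fun i y hi hy => ?_⟩
  have hiy : y ∈ T₀.U ⊓ W i := ⟨hy, hi⟩
  have hres := congrArg (F.presheaf.germ _ y hiy) (hb i)
  erw [TopCat.Presheaf.germ_res_apply, TopCat.Presheaf.germ_res_apply] at hres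
  exact hres

/-- Sections supported in `Z` vanish. -/
def Pure (Z : Set X) (F : X.Modules) : Prop :=
  ∀ (V : X.Opens) (a : Γ(F, V)), (∀ (y : X) (hy : y ∈ V), y ∉ Z → F.presheaf.germ V y hy a = 0) → a = 0

/-- Sections extend across subsets of `Z`. -/
def Ext (Z : Set X) (F : X.Modules) : Prop :=
  ∀ (W W' : X.Opens) (h : W' ≤ W), (∀ y ∈ W, y ∉ Z → y ∈ W') → ∀ a : Γ(F, W'),
    ∃ b : Γ(F, W), F.presheaf.map (homOfLE h).op b = a

end Groth.Agent.ZClosure
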