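import Groth.Agent.ZClosure.Basic
import Groth.Agent.ModStalk.FiniteType
import Groth.Prelude.Def_RefHull

/-! Criteria for Z-pure and Z-closed modules. -/

set_option autoImplicit false
universe u

open CategoryTheory CategoryTheory.Limits AlgebraicGeometry TopologicalSpace Opposite

namespace Groth.Agent.ZClosure

open Groth.Agent.ModStalk

variable {X : Scheme.{u}} {Z : Set X}

theorem germ_eq_of_res_eq (F : X.Modules) {V W W' : X.Opens} (h : W ≤ V) (h' : W ≤ W') {a : Γ(F, V)}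
    {b : Γ(F, W')} (he : F.presheaf.map (homOfLE h).op a = F.presheaf.map (homOfLE h').op b)
    (y : X) (hy : y ∈ W) :
    F.presheaf.germ V y (h hy) a = F.presheaf.germ W' y (h' hy) b := by
  rw [← F.presheaf.germ_res_apply (homOfLE h) y hy a, he, TopCat.Presheaf.germ_res_apply]

theorem pure_of_injective [IsLocallyNoetherian X] (hZ : StableUnderSpecialization Z) (F : X.Modules)
    (h : ∀ (T : ZClos.Cl Z) (V : X.Opens), IsAffineOpen V →
      Function.Injective (F.presheaf.map (homOfLE (inf_le_left : V ⊓ T.U ≤ V)).op)) : Pure Z F := by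
  intro W a ha
  refine section_eq_zero F a fun x hx => ?_
  obtain ⟨_, ⟨V, hV, rfl⟩, hxV, hVW⟩ := X.isBasis_affineOpens.exists_subset_of_mem_open hx W.isOpen
  replace hVW : V ≤ W := hVW
  rw [← F.presheaf.germ_res_apply (homOfLE hVW) x hxV a]
  obtain ⟨T, hT⟩ := exists_cl_support hZ F (F.presheaf.map (homOfLE hVW).op a) fun y hy hyZ => by
    rw [TopCat.Presheaf.germ_res_apply]; exact ha y (hVW hy) hyZ
  have h0 : F.presheaf.map (homOfLE hVW).op a = 0 := by
    refine (injective_iff_map_eq_zero _).mp (h T V hV) _ (section_eq_zero F _ fun y hy => ?_)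
    rw [TopCat.Presheaf.germ_res_apply]
    exact hT y hy.1 hy.2
  rw [h0, map_zero]

theorem ext_of_bijective [IsLocallyNoetherian X] (hZ : StableUnderSpecialization Z) (F : X.Modules)
    (h : ∀ (T : ZClos.Cl Z) (V : X.Opens), IsAffineOpen V →
      Function.Bijective (F.presheaf.map (homOfLE (inf_le_left : V ⊓ T.U ≤ V)).op)) : Ext Z F := by
  intro W W' hle hW a
  have hP := pure_of_injective hZ F fun T V hV => (h T V hV).1
  let T : ZClos.Cl Z := clOf hZ W ((W : Set X) ∩ (W' : Set X)ᶜ)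
    ⟨(W' : Set X)ᶜ, W'.isOpen.isClosed_compl, Set.inter_comm _ _⟩ (fun y hy => by
      by_contra hyZ; exact hy.2 (hW y hy.1 hyZ))
  have hT : ∀ y ∈ W, y ∈ T.U → y ∈ W' := fun y hy hyT => by
    by_contra hyW'
    exact hyT (subset_closure ⟨hy, hyW'⟩)
  have hloc : ∀ x : W, ∃ V : X.Opens, x.1 ∈ V ∧ ∃ hV : V ≤ W, ∃ b : Γ(F, V),
      ∀ (y : X) (hy : y ∈ V) (hyT : y ∈ T.U),
        F.presheaf.germ V y hy b = F.presheaf.germ W' y (hT y (hV hy) hyT) a := by
    rintro ⟨x, hx⟩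
    obtain ⟨_, ⟨V, hV, rfl⟩, hxV, hVW⟩ := X.isBasis_affineOpens.exists_subset_of_mem_open hx W.isOpen
    replace hVW : V ≤ W := hVW
    have hle' : V ⊓ T.U ≤ W' := fun y hy => hT y (hVW hy.1) hy.2
    obtain ⟨b, hb⟩ := (h T V hV).2 (F.presheaf.map (homOfLE hle').op a)
    exact ⟨V, hxV, hVW, b, fun y hy hyT => germ_eq_of_res_eq F _ _ hb y ⟨hy, hyT⟩⟩
  choose V hxV hVW b hb using hloc
  obtain ⟨c, hc, -⟩ := TopCat.Sheaf.existsUnique_gluing' ⟨F.presheaf, F.isSheaf⟩ V W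
    (fun x => homOfLE (hVW x)) (fun x hx => Opens.mem_iSup.mpr ⟨⟨x, hx⟩, hxV ⟨x, hx⟩⟩) b
    (fun i j => by
      refine sub_eq_zero.mp (hP _ _ fun y hy hyZ => ?_)
      erw [map_sub, TopCat.Presheaf.germ_res_apply, TopCat.Presheaf.germ_res_apply]
      have hyT : y ∈ T.U := fun hy' => hyZ (T.2 hy')
      rw [hb i y hy.1 hyT, hb j y hy.2 hyT, sub_self])
  refine ⟨c, sub_eq_zero.mp (hP _ _ fun y hy hyZ => ?_)⟩
  rw [map_sub, TopCat.Presheaf.germ_res_apply]
  have hyT : y ∈ T.U := fun hy' => hyZ (T.2 hy')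
  have h1 := congrArg (F.presheaf.germ _ y (hxV ⟨y, hle hy⟩)) (hc ⟨y, hle hy⟩)
  erw [TopCat.Presheaf.germ_res_apply] at h1
  rw [h1, hb ⟨y, hle hy⟩ y _ hyT, sub_self]

theorem injective_res_of_mono (F : X.Modules) (T : ZClos.Cl Z) (h : Mono (ZClos.toDiagram Z F T))
    (V : X.Opens) : Function.Injective (F.presheaf.map (homOfLE (inf_le_left : V ⊓ T.U ≤ V)).op) := by
  have hinj := @injective_app_of_mono X _ F (ZClos.toDiagram Z F T) h V
  rw [injective_iff_map_eq_zero]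
  intro a ha
  refine (injective_iff_map_eq_zero _).mp hinj a ?_
  have hle : T.U.ι ''ᵁ T.U.ι ⁻¹ᵁ V ≤ V ⊓ T.U := by rw [ZClos.ι_image_preimage, inf_comm]
  show F.presheaf.map (homOfLE (T.U.ι.image_preimage_le V)).op a = 0
  rw [← res_res F (inf_le_left : V ⊓ T.U ≤ V) hle a, ha]
  exact map_zero _

theorem bijective_res_of_isIso (F : X.Modules) (T : ZClos.Cl Z) (h : IsIso (ZClos.toDiagram Z F T))
    (V : X.Opens) : Function.Bijective (F.presheaf.map (homOfLE (inf_le_left : V ⊓ T.U ≤ V)).op) := by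
  refine ⟨injective_res_of_mono F T inferInstance V, fun a => ?_⟩
  have hle : T.U.ι ''ᵁ T.U.ι ⁻¹ᵁ V ≤ V ⊓ T.U := by rw [ZClos.ι_image_preimage, inf_comm]
  have hge : V ⊓ T.U ≤ T.U.ι ''ᵁ T.U.ι ⁻¹ᵁ V := by rw [ZClos.ι_image_preimage, inf_comm]
  obtain ⟨b, hb⟩ := (ConcreteCategory.bijective_of_isIso ((ZClos.toDiagram Z F T).app V)).2
    (F.presheaf.map (homOfLE hle).op a)
  refine ⟨b, section_eq_zero_iff_sub.mp fun y hy => ?_⟩
  exact (F.presheaf.germ_res_apply (homOfLE inf_le_left) y hy b).trans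
    (germ_eq_of_res_eq F (T.U.ι.image_preimage_le V) hle hb y (hge hy))
where
  section_eq_zero_iff_sub {V : X.Opens} {s t : Γ(F, V)} :
      (∀ (y : X) (hy : y ∈ V), F.presheaf.germ V y hy s = F.presheaf.germ V y hy t) ↔ s = t :=
    ⟨fun h => TopCat.Presheaf.section_ext ⟨F.presheaf, F.isSheaf⟩ V s t h, fun h _ _ => h ▸ rfl⟩

theorem mono_toDiagram (F : X.Modules) (hP : Pure Z F) (T : ZClos.Cl Z) : Mono (ZClos.toDiagram Z F T) := by
  refine ⟨fun {G} g₁ g₂ h => Scheme.Modules.hom_ext _ _ fun V => ?_⟩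
  ext s
  refine sub_eq_zero.mp (hP V _ fun y hy hyZ => ?_)
  have h0 : (ZClos.toDiagram Z F T).app V (g₁.app V s) = (ZClos.toDiagram Z F T).app V (g₂.app V s) :=
    congrArg (fun f => Scheme.Modules.Hom.app f V s) h
  have hy' : y ∈ T.U.ι ''ᵁ T.U.ι ⁻¹ᵁ V := by rw [ZClos.ι_image_preimage]; exact ⟨fun h => hyZ (T.2 h), hy⟩
  have h1 := congrArg (F.presheaf.germ (T.U.ι ''ᵁ T.U.ι ⁻¹ᵁ V) y hy') h0
  have e : ∀ b : Γ(F, V), F.presheaf.germ (T.U.ι ''ᵁ T.U.ι ⁻¹ᵁ V) y hy' ((ZClos.toDiagram Z F T).app V b) =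
      F.presheaf.germ V y hy b := fun b =>
    F.presheaf.germ_res_apply (homOfLE (T.U.ι.image_preimage_le V)) y hy' b
  erw [e, e] at h1
  rw [map_sub, h1, sub_self]

theorem isIso_toDiagram (F : X.Modules) (hP : Pure Z F) (hE : Ext Z F) (T : ZClos.Cl Z) :
    IsIso (ZClos.toDiagram Z F T) := by
  refine Scheme.Modules.Hom.isIso_iff_isIso_app.mpr fun V => ?_
  refine (ConcreteCategory.isIso_iff_bijective _).mpr ⟨?_, fun a => ?_⟩
  · have := mono_toDiagram F hP T
    exact injective_app_of_mono _ (ZClos.toDiagram Z F T) V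
  · exact hE V _ (T.U.ι.image_preimage_le V) (fun y hy hyZ => by
      rw [ZClos.ι_image_preimage]; exact ⟨fun h => hyZ (T.2 h), hy⟩) a

theorem isZPure_iff_pure [IsLocallyNoetherian X] (hZ : StableUnderSpecialization Z) (F : X.Modules) :
    ZClos.IsZPure Z F ↔ Pure Z F :=
  ⟨fun h => pure_of_injective hZ F fun T V _ => injective_res_of_mono F T ((isZPure_iff F).mp h T) V,
    fun h => (isZPure_iff F).mpr (mono_toDiagram F h)⟩

theorem isZClosed_iff_ext [IsLocallyNoetherian X] (hZ : StableUnderSpecialization Z) (F : X.Modules) :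
    ZClos.IsZClosed Z F ↔ Pure Z F ∧ Ext Z F := by
  constructor
  · intro h
    have hbij := fun (T : ZClos.Cl Z) (V : X.Opens) (_ : IsAffineOpen V) =>
      bijective_res_of_isIso F T ((isZClosed_iff F).mp h T) V
    exact ⟨pure_of_injective hZ F fun T V hV => (hbij T V hV).1, ext_of_bijective hZ F hbij⟩
  · exact fun h => (isZClosed_iff F).mpr (isIso_toDiagram F h.1 h.2)

end Groth.Agent.ZClosure
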